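import Cfsg.Agent.Lib.CharTheory.NormalSylow.Clifford
import Cfsg.Agent.BlocksChars.Degrees
import Cfsg.Prelude.Def_DegreeGraph

/-!
# Degrees above an extendible character of a normal subgroup
-/

set_option autoImplicit false
set_option linter.style.haveILetI false

namespace Cfsg.Agent.BlocksChars.Palfy

open Cfsg.Agent.Characters Cfsg.Agent.BlocksChars.Degrees Cfsg.Agent.CharTheory

universe u

variable {X : Type u} [Group X] [Finite X] (N : Subgroup X) [N.Normal]

/-- Every `[X : T] θ(1) β(1)` is a degree. -/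
theorem degree_mem {θ : N → ℂ} (hθ : Cfsg.IsIrrCharacter N θ) (T : Subgroup X)
    (hT : ∀ g : X, g ∈ T ↔ Clifford.conjBy N g θ = θ) (hNT : N ≤ T) (e : T → ℂ)
    (he : Cfsg.IsIrrCharacter T e) (heN : ∀ n : N, e ⟨n, hNT n.2⟩ = θ n)
    (β : Cfsg.IrrCharacter (T ⧸ N.subgroupOf T)) :
    T.index * (Cfsg.charDegree θ * Cfsg.charDegree (β : T ⧸ N.subgroupOf T → ℂ)) ∈
      Cfsg.charDegrees X := by
  haveI := Fintype.ofFinite X
  haveI := Fintype.ofFinite N
  obtain ⟨hirr, -⟩ := NormalSylow.phi_spec N T e hθ hT hNT he heN β.2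
  refine ⟨⟨_, hirr⟩, ?_⟩
  have h := NormalSylow.prodFun_coe N T e hNT heN (β : T ⧸ N.subgroupOf T → ℂ) 1
  have h1 : NormalSylow.phi N T e (β : T ⧸ N.subgroupOf T → ℂ) 1 =
      ((T.index * (Cfsg.charDegree θ * Cfsg.charDegree (β : T ⧸ N.subgroupOf T → ℂ)) : ℕ) : ℂ) := by
    rw [NormalSylow.phi, indFun_one]
    rw [show NormalSylow.prodFun N T e (β : T ⧸ N.subgroupOf T → ℂ) 1 =
      (β : T ⧸ N.subgroupOf T → ℂ) 1 * θ 1 from h]
    push_cast
    rw [charDegree_cast β, show (Cfsg.charDegree θ : ℂ) = θ 1 from charDegree_cast ⟨θ, hθ⟩]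
    ring
  exact Nat.cast_injective (R := ℂ) ((charDegree_cast ⟨_, hirr⟩).trans h1)

theorem charDegree_linear {Y : Type u} [Group Y] (μ : Y →* ℂˣ) :
    Cfsg.charDegree (fun y => (μ y : ℂ)) = 1 := by
  refine Nat.cast_injective (R := ℂ) ?_
  rw [charDegree_cast ⟨_, isIrrCharacter_linear μ⟩]
  simp

/-- The version for a linear character. -/
theorem degree_mem_linear (μ : N →* ℂˣ) (T : Subgroup X)
    (hT : ∀ g : X, g ∈ T ↔ ∀ n : N, μ (MulAut.conjNormal g n) = μ n) (hNT : N ≤ T) (e : T →* ℂˣ)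
    (heN : ∀ n : N, e ⟨n, hNT n.2⟩ = μ n) (β : Cfsg.IrrCharacter (T ⧸ N.subgroupOf T)) :
    T.index * Cfsg.charDegree (β : T ⧸ N.subgroupOf T → ℂ) ∈ Cfsg.charDegrees X := by
  have h := degree_mem N (isIrrCharacter_linear μ) T (fun g => ?_) hNT (fun t => (e t : ℂ))
    (isIrrCharacter_linear e) (fun n => congrArg Units.val (heN n)) β
  · rwa [charDegree_linear, one_mul] at h
  · rw [hT, funext_iff]
    refine forall_congr' fun n => ?_
    rw [Clifford.conjBy_apply, Units.val_inj]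
    exact Iff.of_eq (congrArg (fun a => μ a = μ n) (Subtype.ext (by simp)))

/-- In particular, the index of the inertia group. -/
theorem index_mem_linear (μ : N →* ℂˣ) (T : Subgroup X)
    (hT : ∀ g : X, g ∈ T ↔ ∀ n : N, μ (MulAut.conjNormal g n) = μ n) (hNT : N ≤ T) (e : T →* ℂˣ)
    (heN : ∀ n : N, e ⟨n, hNT n.2⟩ = μ n) : T.index ∈ Cfsg.charDegrees X := by
  have h := degree_mem_linear N μ T hT hNT e heN ⟨_, isIrrCharacter_linear 1⟩
  rwa [charDegree_linear, mul_one] at h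

end Cfsg.Agent.BlocksChars.Palfy
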