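import Cfsg.Agent.BlocksChars.Palfy.Cover
import Cfsg.Agent.BlocksChars.Palfy.Degrees
import Cfsg.Agent.BlocksChars.ItoPSolvable
import Cfsg.Agent.BlocksChars.SL2Degrees
import Cfsg.Agent.Lib.PLocal.SolvableSeparable

/-!
# Split extensions: stabilisers on linear characters and the degrees above them
-/

set_option autoImplicit false
set_option linter.style.haveILetI false

namespace Cfsg.Agent.BlocksChars.Palfy

open Cfsg.Agent.Characters Cfsg.Agent.CharTheory Cfsg.Agent.BlocksChars
open scoped IsMulCommutative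

universe u v

variable {G : Type u} [Group G]

/-- No degree is divisible by both primes. -/
def NoEdge (G : Type u) [Group G] (p q : ℕ) : Prop :=
  ∀ d ∈ Cfsg.charDegrees G, p ∣ d → ¬ q ∣ d

theorem NoEdge.symm {p q : ℕ} (h : NoEdge G p q) : NoEdge G q p := fun d hd hq hp => h d hd hp hq

theorem not_divides_of_normal_abelian [Finite G] {p : ℕ} (A : Subgroup G) [A.Normal]
    (hab : IsMulCommutative A) (hidx : ¬ p ∣ A.index) :
    ∀ d ∈ Cfsg.charDegrees G, ¬ p ∣ d := by
  rintro d ⟨χ, rfl⟩ hp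
  obtain ⟨e, he1, he2⟩ := Ito.degree_dvd_index_abelian A
    (fun a ha b hb => congrArg Subtype.val (hab.is_comm.comm (⟨a, ha⟩ : A) ⟨b, hb⟩)) χ.2
  rw [Nat.cast_injective (R := ℂ) ((Degrees.charDegree_cast χ).trans he1)] at hp
  exact hidx (hp.trans he2)

/-- The action on the linear characters of a normal subgroup. -/
noncomputable def dualAct (V : Subgroup G) [V.Normal] : G →* MulAut (V →* ℂˣ) where
  toFun g :=
    { toFun := fun l => l.comp (MulAut.conjNormal g⁻¹ : V ≃* V).toMonoidHom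
      invFun := fun l => l.comp (MulAut.conjNormal g : V ≃* V).toMonoidHom
      left_inv := fun l => MonoidHom.ext fun v => congrArg l (Subtype.ext (by simp))
      right_inv := fun l => MonoidHom.ext fun v => congrArg l (Subtype.ext (by simp))
      map_mul' := fun a b => MonoidHom.ext fun v => rfl }
  map_one' := MulEquiv.ext fun l => MonoidHom.ext fun v => congrArg l (Subtype.ext (by simp))
  map_mul' a b := MulEquiv.ext fun l => MonoidHom.ext fun v =>
    congrArg l (Subtype.ext (by simp))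

theorem dualAct_apply (V : Subgroup G) [V.Normal] (g : G) (l : V →* ℂˣ) (v : V) :
    dualAct V g l v = l (MulAut.conjNormal g⁻¹ v) := rfl

theorem dualAct_eq_iff (V : Subgroup G) [V.Normal] (g : G) (l : V →* ℂˣ) :
    dualAct V g l = l ↔ ∀ v : V, l (MulAut.conjNormal g v) = l v := by
  refine ⟨fun h v => ?_, fun h => MonoidHom.ext fun v => ?_⟩
  · conv_rhs => rw [show v = MulAut.conjNormal g⁻¹ (MulAut.conjNormal g v) from
      Subtype.ext (by simp)]
    exact (DFunLike.congr_fun h _).symm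
  · rw [dualAct_apply]
    refine (h _).symm.trans (congrArg l (Subtype.ext ?_))
    simp

theorem finite_dual [Finite G] (V : Subgroup G) : Finite (V →* ℂˣ) := by
  refine Nat.finite_of_card_ne_zero ?_
  rw [card_linear_hom]
  exact Subgroup.index_ne_zero_of_finite

theorem card_dual [Finite G] (V : Subgroup G) [IsMulCommutative V] :
    Nat.card (V →* ℂˣ) = Nat.card V := by
  haveI : NeZero (Monoid.exponent V) := ⟨Monoid.exponent_ne_zero_of_finite⟩
  exact CommGroup.card_monoidHom_of_hasEnoughRootsOfUnity V ℂ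

theorem dual_pow {V : Subgroup G} {ℓ : ℕ} (hexp : ∀ a ∈ V, a ^ ℓ = 1) (l : V →* ℂˣ) : l ^ ℓ = 1 :=
  MonoidHom.ext fun v => by
    rw [MonoidHom.pow_apply, ← map_pow, MonoidHom.one_apply,
      show v ^ ℓ = 1 from Subtype.ext (by simpa using hexp v v.2), map_one]

theorem centralizes_of_dual [Finite G] (V : Subgroup G) [V.Normal] [IsMulCommutative V] {g : G}
    (h : ∀ l : V →* ℂˣ, dualAct V g l = l) : g ∈ Subgroup.centralizer (V : Set G) := by
  haveI : NeZero (Monoid.exponent V) := ⟨Monoid.exponent_ne_zero_of_finite⟩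
  refine Subgroup.mem_centralizer_iff.2 fun v hv => ?_
  have h1 := congrArg Subtype.val ((CommGroup.forall_apply_eq_apply_iff (M := ℂ)
    (G := V) (g := MulAut.conjNormal g ⟨v, hv⟩) (g' := ⟨v, hv⟩)).1
    fun l => (dualAct_eq_iff V g l).1 (h l) _)
  simp only [MulAut.conjNormal_apply] at h1
  exact (mul_inv_eq_iff_eq_mul.1 h1).symm

/-- The dual of a minimal normal subgroup is irreducible. -/
theorem dual_irreducible [Finite G] (V : Subgroup G) [V.Normal] [IsMulCommutative V]
    (hmin : ∀ K : Subgroup G, K.Normal → K ≤ V → K = ⊥ ∨ K = V) (H : Subgroup G)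
    (hHV : ∀ g : G, ∃ h ∈ H, ∀ v ∈ V, g * v * g⁻¹ = h * v * h⁻¹) (U : Subgroup (V →* ℂˣ))
    (hU : ∀ h : H, ∀ l ∈ U, dualAct V (h : G) l ∈ U) : U = ⊥ ∨ U = ⊤ := by
  haveI : NeZero (Monoid.exponent V) := ⟨Monoid.exponent_ne_zero_of_finite⟩
  obtain ⟨K, hK⟩ := (CommGroup.subgroupOrderIsoSubgroupMonoidHom V ℂ).surjective (OrderDual.toDual U)
  have hUK : ∀ l : V →* ℂˣ, l ∈ U ↔ ∀ x ∈ K, l x = 1 := fun l => by
    rw [← CommGroup.mem_subgroupOrderIsoSubgroupMonoidHom_iff, hK, OrderDual.ofDual_toDual]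
  have hKU : ∀ x : V, x ∈ K ↔ ∀ l ∈ U, l x = 1 := fun x =>
    ⟨fun hx l hl => (hUK l).1 hl x hx, fun hx =>
      (CommGroup.forall_monoidHom_apply_eq_one_iff ℂ K x).1 fun l hl => hx l ((hUK l).2 hl)⟩
  have hn : (K.map V.subtype).Normal := by
    refine ⟨?_⟩
    rintro _ ⟨x, hx, rfl⟩ g
    obtain ⟨h, hh, hgh⟩ := hHV g
    refine ⟨MulAut.conjNormal h x, (hKU _).2 fun l hl => ?_, ?_⟩
    · have h1 := (hKU x).1 hx _ (hU ⟨h⁻¹, H.inv_mem hh⟩ l hl)
      rw [dualAct_apply] at h1
      refine Eq.trans (congrArg l (Subtype.ext ?_)) h1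
      simp
    · simp [hgh _ x.2]
  rcases hmin _ hn (Subgroup.map_subtype_le K) with h | h
  · refine Or.inr (eq_top_iff.2 fun l _ => (hUK l).2 fun x hx => ?_)
    rw [Subgroup.map_eq_bot_iff_of_injective _ V.subtype_injective] at h
    rw [h, Subgroup.mem_bot] at hx
    rw [hx, map_one]
  · refine Or.inl ((Subgroup.eq_bot_iff_forall _).2 fun l hl => MonoidHom.ext fun x => ?_)
    obtain ⟨y, hy, hyx⟩ : (x : G) ∈ K.map V.subtype := h.symm ▸ x.2
    exact Subtype.ext hyx ▸ (hUK l).1 hl y hy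

section Stab

variable {H : Type u} [Group H] {X : Type v} [Group X]

/-- The stabiliser of a point. -/
def stabSub (φ : H →* MulAut X) (x : X) : Subgroup H where
  carrier := {h | φ h x = x}
  one_mem' := by simp
  mul_mem' := fun {a b} (ha : φ a x = x) (hb : φ b x = x) => by
    show φ (a * b) x = x
    rw [map_mul, MulAut.mul_apply, hb, ha]
  inv_mem' := fun {a} (ha : φ a x = x) => by
    show φ a⁻¹ x = x
    conv_lhs => rw [← ha]
    rw [← MulAut.mul_apply, ← map_mul, inv_mul_cancel, map_one, MulAut.one_apply]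

theorem mem_stabSub {φ : H →* MulAut X} {x : X} {h : H} : h ∈ stabSub φ x ↔ φ h x = x := Iff.rfl

/-- A subgroup of index prime to `p` contains a Sylow subgroup. -/
theorem exists_sylow_le [Finite H] {p : ℕ} [hp : Fact p.Prime] (K : Subgroup H)
    (h : ¬ p ∣ K.index) : ∃ P : Sylow p H, (P : Subgroup H) ≤ K := by
  obtain ⟨Q⟩ : Nonempty (Sylow p K) := inferInstance
  have hpg : IsPGroup p ((Q : Subgroup K).map K.subtype) := Q.2.map _
  obtain ⟨P, hP⟩ := hpg.exists_le_sylow
  refine ⟨P, le_trans (le_of_eq ?_) (Subgroup.map_subtype_le (Q : Subgroup K))⟩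
  refine (Subgroup.eq_of_le_of_card_ge hP ?_).symm
  rw [Nat.card_congr ((Q : Subgroup K).equivMapOfInjective K.subtype K.subtype_injective).toEquiv.symm,
    P.card_eq_multiplicity, Q.card_eq_multiplicity, ← K.index_mul_card, Nat.factorization_mul
      Subgroup.index_ne_zero_of_finite Nat.card_pos.ne', Finsupp.add_apply,
    Nat.factorization_eq_zero_of_not_dvd h, zero_add]

variable [Finite H] [Group.IsSolvable H] {p : ℕ} [Fact p.Prime] {φ : H →* MulAut X}

theorem cover_of_stab (h : ∀ x : X, x ≠ 1 →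
    ¬ p ∣ (stabSub φ x).index ∧ ItoPSolvable.PPrimeDegrees (stabSub φ x) p) : Cover p φ := by
  intro x hx
  obtain ⟨h1, h2⟩ := h x hx
  obtain ⟨P, hP⟩ := exists_sylow_le _ h1
  obtain ⟨hn, -⟩ := (ItoPSolvable.normal_abelian_iff
    (Cfsg.Agent.PLocal.SolvableSeparable.isPSolvable_of_isSolvable p _) (P.subtype hP)).2 h2
  refine ⟨P, fun k hk => hP hk, fun P' hP' => ?_⟩
  haveI := Sylow.unique_of_normal _ hn
  exact Sylow.subtype_injective (hP := fun k hk => hP' k hk) (hQ := hP) (Subsingleton.elim _ _)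

theorem abelian_of_stab (h : ∀ x : X, x ≠ 1 →
    ¬ p ∣ (stabSub φ x).index ∧ ItoPSolvable.PPrimeDegrees (stabSub φ x) p) [Nontrivial X]
    (P : Sylow p H) [(P : Subgroup H).Normal] : IsMulCommutative P := by
  obtain ⟨x, hx⟩ := exists_ne (1 : X)
  obtain ⟨h1, h2⟩ := h x hx
  obtain ⟨Q, hQ⟩ := exists_sylow_le _ h1
  haveI := Sylow.unique_of_normal P inferInstance
  obtain rfl : Q = P := Subsingleton.elim _ _
  obtain ⟨-, hc⟩ := (ItoPSolvable.normal_abelian_iff
    (Cfsg.Agent.PLocal.SolvableSeparable.isPSolvable_of_isSolvable p _) (Q.subtype hQ)).2 h2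
  refine ⟨⟨fun a b => Subtype.ext ?_⟩⟩
  have h3 := hc.is_comm.comm (⟨⟨a, hQ a.2⟩, a.2⟩ : ↥(Q.subtype hQ : Subgroup (stabSub φ x)))
    ⟨⟨b, hQ b.2⟩, b.2⟩
  exact congrArg (fun z : stabSub φ x => z.1) (congrArg Subtype.val h3)

end Stab

section Complement

variable [Finite G] {N H : Subgroup G} [N.Normal]

theorem bijective_to_quotient (hc : Subgroup.IsComplement' N H) :
    Function.Bijective ((QuotientGroup.mk' N).comp H.subtype) := by
  constructor
  · rw [injective_iff_map_eq_one]
    intro h hh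
    have : (h : G) ∈ N ⊓ H := ⟨(QuotientGroup.eq_one_iff _).1 hh, h.2⟩
    rw [hc.disjoint.eq_bot, Subgroup.mem_bot] at this
    exact Subtype.ext this
  · intro z
    obtain ⟨g, rfl⟩ := QuotientGroup.mk'_surjective N z
    obtain ⟨⟨⟨n, hn⟩, ⟨h, hh⟩⟩, rfl⟩ := hc.surjective g
    refine ⟨⟨h, hh⟩, ?_⟩
    show (QuotientGroup.mk' N) h = QuotientGroup.mk' N (n * h)
    rw [map_mul, show QuotientGroup.mk' N n = 1 from (QuotientGroup.eq_one_iff n).2 hn, one_mul]

theorem charDegrees_complement_subset (hc : Subgroup.IsComplement' N H) :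
    Cfsg.charDegrees H ⊆ Cfsg.charDegrees G := by
  let e := MulEquiv.ofBijective _ (bijective_to_quotient hc)
  exact SL2Degrees.charDegrees_subset_of_surjective
    (e.symm.toMonoidHom.comp (QuotientGroup.mk' N))
    (e.symm.surjective.comp (QuotientGroup.mk'_surjective N))

variable (hc : Subgroup.IsComplement' N H) {T : Subgroup G} (hNT : N ≤ T)
include hc hNT

theorem bijective_to_subquotient : Function.Bijective fun k : T.subgroupOf H =>
    ((⟨(k : H), k.2⟩ : T) : T ⧸ N.subgroupOf T) := by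
  constructor
  · intro a b hab
    have h1 : ((a : H) : G)⁻¹ * (b : H) ∈ N ⊓ H :=
      ⟨(QuotientGroup.eq (s := N.subgroupOf T) (a := (⟨_, a.2⟩ : T)) (b := ⟨_, b.2⟩)).1 hab,
        H.mul_mem (H.inv_mem a.1.2) b.1.2⟩
    rw [hc.disjoint.eq_bot, Subgroup.mem_bot, inv_mul_eq_one] at h1
    exact Subtype.ext (Subtype.ext h1)
  · intro z
    obtain ⟨⟨g, hg⟩, rfl⟩ := QuotientGroup.mk_surjective z
    obtain ⟨⟨⟨n, hn⟩, ⟨h, hh⟩⟩, rfl⟩ := hc.surjective g
    have hht : h ∈ T := by simpa using T.mul_mem (T.inv_mem (hNT hn)) hg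
    refine ⟨⟨⟨h, hh⟩, hht⟩, QuotientGroup.eq.2 ?_⟩
    show h⁻¹ * (n * h) ∈ N
    simpa [mul_assoc] using (inferInstance : N.Normal).conj_mem n hn h⁻¹

theorem index_subgroupOf : (T.subgroupOf H).index = T.index := by
  have h1 := Nat.card_congr (Equiv.ofBijective _ (bijective_to_subquotient hc hNT))
  have h2 := (N.subgroupOf T).card_eq_card_quotient_mul_card_subgroup
  rw [← h1, Nat.card_congr (Subgroup.subgroupOfEquivOfLe hNT).toEquiv] at h2
  have h3 := T.index_mul_card
  rw [← hc.card_mul_card, ← (T.subgroupOf H).index_mul_card, h2] at h3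
  refine (Nat.eq_of_mul_eq_mul_right
    (Nat.mul_pos (Nat.card_pos (α := T.subgroupOf H)) (Nat.card_pos (α := N))) ?_).symm
  rw [h3]; ring

/-- Degrees above an extendible character, through the complement. -/
theorem degree_mem_complement {θ : N → ℂ} (hθ : Cfsg.IsIrrCharacter N θ)
    (hT : ∀ g : G, g ∈ T ↔ Clifford.conjBy N g θ = θ) (e : T → ℂ)
    (he : Cfsg.IsIrrCharacter T e) (heN : ∀ n : N, e ⟨n, hNT n.2⟩ = θ n)
    {d : ℕ} (hd : d ∈ Cfsg.charDegrees (T.subgroupOf H)) :
    (T.subgroupOf H).index * (Cfsg.charDegree θ * d) ∈ Cfsg.charDegrees G := by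
  let f : T.subgroupOf H →* T ⧸ N.subgroupOf T :=
    (QuotientGroup.mk' _).comp
      { toFun := fun k => ⟨((k : H) : G), k.2⟩
        map_one' := rfl
        map_mul' := fun _ _ => rfl }
  let e' := MulEquiv.ofBijective f (bijective_to_subquotient hc hNT)
  obtain ⟨β, rfl⟩ := SL2Degrees.charDegrees_subset_of_surjective e'.symm.toMonoidHom
    e'.symm.surjective hd
  rw [index_subgroupOf hc hNT]
  exact degree_mem N hθ T hT hNT e he heN β

end Complement

/-- The linear extension to a split inertia group. -/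
theorem linear_degrees [Finite G] {N H : Subgroup G} [N.Normal] [IsMulCommutative N]
    (hc : Subgroup.IsComplement' N H) (l : N →* ℂˣ) {K : Subgroup H}
    (hK : ∀ h : H, h ∈ K ↔ dualAct N (h : G) l = l) {d : ℕ} (hd : d ∈ Cfsg.charDegrees K) :
    K.index * d ∈ Cfsg.charDegrees G := by
  let T : Subgroup G := stabSub (dualAct N) l
  have hT : ∀ g : G, g ∈ T ↔ ∀ n : N, l (MulAut.conjNormal g n) = l n := fun g =>
    dualAct_eq_iff N g l
  have hNT : N ≤ T := fun x hx => (hT x).2 fun n => congrArg l (Subtype.ext (by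
    rw [MulAut.conjNormal_apply]
    have h := congrArg Subtype.val (‹IsMulCommutative N›.is_comm.comm (⟨x, hx⟩ : N) n)
    simp only [Subgroup.coe_mul] at h
    rw [h, mul_inv_cancel_right]))
  obtain rfl : K = T.subgroupOf H := Subgroup.ext fun h => by
    rw [hK, Subgroup.mem_subgroupOf]; exact Iff.rfl
  let E := Equiv.ofBijective _ hc
  have hE : ∀ t : T, ((E.symm (t : G)).1 : G) * ((E.symm (t : G)).2 : G) = t := fun t =>
    E.apply_symm_apply (t : G)
  let e : T →* ℂˣ :=
    MonoidHom.mk' (fun t => l ⟨(E.symm (t : G)).1, (E.symm (t : G)).1.2⟩) fun a b => by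
      set n := (E.symm (a : G)).1 with hn
      set h := (E.symm (a : G)).2 with hh
      set n' := (E.symm (b : G)).1 with hn'
      set h' := (E.symm (b : G)).2 with hh'
      have hh_T : (h : G) ∈ T := by
        have h1 := T.mul_mem (T.inv_mem (hNT n.2)) a.2
        rwa [← hE a, inv_mul_cancel_left] at h1
      have hp : E.symm ((a * b : T) : G) =
          (n * MulAut.conjNormal (h : G) n', ⟨h * h', H.mul_mem h.2 h'.2⟩) := by
        rw [Equiv.symm_apply_eq]
        show _ = ((n * MulAut.conjNormal (h : G) n' : N) : G) * ((h : G) * h')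
        rw [Subgroup.coe_mul, ← hE a, ← hE b, Subgroup.coe_mul, MulAut.conjNormal_apply]
        group
        rfl
      show l _ = l n * l n'
      rw [hp]
      exact (map_mul l n _).trans (congrArg (l n * ·) ((hT _).1 hh_T n'))
  have heN : ∀ n : N, e ⟨n, hNT n.2⟩ = l n := fun n => by
    have h1 : E.symm (n : G) = (n, (1 : H)) := by
      rw [Equiv.symm_apply_eq]
      show (n : G) = n * (1 : G)
      rw [mul_one]
    show l _ = l n
    exact congrArg (fun z : N × H => l ⟨z.1, z.1.2⟩) h1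
  have h := degree_mem_complement hc hNT (isIrrCharacter_linear l) (fun g => ?_) (fun t => (e t : ℂ))
    (isIrrCharacter_linear e) (fun n => congrArg Units.val (heN n)) hd
  · rwa [charDegree_linear, one_mul] at h
  · rw [hT, funext_iff]
    refine forall_congr' fun n => ?_
    rw [Clifford.conjBy_apply, Units.val_inj]
    exact Iff.of_eq (congrArg (fun a => l a = l n) (Subtype.ext (by simp)))

end Cfsg.Agent.BlocksChars.Palfy
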