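import Mathlib

/-!
# Actions in which every non-trivial point is fixed by exactly one Sylow subgroup
-/

set_option autoImplicit false
set_option linter.style.haveILetI false

namespace Cfsg.Agent.BlocksChars.Palfy

variable {H : Type*} [Group H] {X : Type*} [Group X]

/-- Every non-trivial element of `X` is fixed by exactly one Sylow `p`-subgroup of `H`. -/
def Cover (p : ℕ) (φ : H →* MulAut X) : Prop :=
  ∀ x : X, x ≠ 1 → ∃! P : Sylow p H, ∀ h ∈ P, φ h x = x

/-- The elements fixed by a subgroup. -/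
def fixSub (φ : H →* MulAut X) (P : Subgroup H) : Subgroup X where
  carrier := {x | ∀ h ∈ P, φ h x = x}
  one_mem' h _ := map_one _
  mul_mem' := fun {a b} ha hb h hh => by rw [map_mul, ha h hh, hb h hh]
  inv_mem' := fun {a} ha h hh => by rw [map_inv, ha h hh]

theorem mem_fixSub {φ : H →* MulAut X} {P : Subgroup H} {x : X} :
    x ∈ fixSub φ P ↔ ∀ h ∈ P, φ h x = x := Iff.rfl

theorem le_sylow_of_normal {p : ℕ} [Fact p.Prime] [Finite H] (P : Sylow p H) {N : Subgroup H}
    [N.Normal] (hN : IsPGroup p N) : N ≤ (P : Subgroup H) := by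
  refine sup_eq_right.1 (P.is_maximal' ?_ le_sup_right)
  exact hN.to_sup_of_normal_left P.isPGroup'

namespace Cover

variable {p : ℕ} {φ : H →* MulAut X} (hc : Cover p φ)
include hc

theorem inter_eq_one {P Q : Sylow p H} (hne : P ≠ Q) {x : X} (h1 : x ∈ fixSub φ P)
    (h2 : x ∈ fixSub φ Q) : x = 1 := by
  by_contra hx
  exact hne ((hc x hx).unique h1 h2)

/-- A normal `p`-subgroup acts trivially. -/
theorem normal_pGroup_trivial [Fact p.Prime] [Finite H] {N : Subgroup H} [N.Normal]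
    (hN : IsPGroup p N) {h : H} (hh : h ∈ N) : φ h = 1 := by
  refine MulEquiv.ext fun x => ?_
  rcases eq_or_ne x 1 with rfl | hx
  · simp
  obtain ⟨P, hP, -⟩ := hc x hx
  exact hP h (le_sylow_of_normal P hN hh)

theorem card_fixSub [Fact p.Prime] [Finite H] (P Q : Sylow p H) :
    Nat.card (fixSub φ (Q : Subgroup H)) = Nat.card (fixSub φ (P : Subgroup H)) := by
  obtain ⟨g, rfl⟩ := MulAction.exists_smul_eq H P Q
  refine Nat.card_congr
    { toFun := fun x => ⟨φ g⁻¹ x.1, fun h hh => ?_⟩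
      invFun := fun x => ⟨φ g x.1, fun h hh => ?_⟩
      left_inv := fun x => by ext; simp
      right_inv := fun x => by ext; simp }
  · have hmem : g * h * g⁻¹ ∈ ((g • P : Sylow p H) : Subgroup H) := by
      rw [← SetLike.mem_coe]
      exact Set.smul_mem_smul_set hh
    have := congrArg (φ g⁻¹) (x.2 _ hmem)
    simpa [map_mul, MulAut.mul_apply] using this
  · obtain ⟨k, hk, rfl⟩ := Set.mem_smul_set.1 hh
    show φ (g * k * g⁻¹) (φ g x.1) = φ g x.1
    simp [map_mul, MulAut.mul_apply, x.2 k hk]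

/-- The partition of `X`. -/
theorem card_eq [Fact p.Prime] [Finite H] [Finite X] (P : Sylow p H) :
    Nat.card X - 1 = Nat.card (Sylow p H) * (Nat.card (fixSub φ (P : Subgroup H)) - 1) := by
  classical
  let e : (Σ Q : Sylow p H, {x : fixSub φ (Q : Subgroup H) // x ≠ 1}) ≃ {x : X // x ≠ 1} :=
    { toFun := fun s => ⟨s.2.1.1, fun h => s.2.2 (Subtype.ext h)⟩
      invFun := fun x => ⟨(hc x.1 x.2).choose, ⟨x.1, (hc x.1 x.2).choose_spec.1⟩,
        fun h => x.2 (congrArg Subtype.val h)⟩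
      left_inv := fun s => by
        obtain ⟨Q, ⟨⟨x, hx⟩, hx1⟩⟩ := s
        have hx1' : x ≠ 1 := fun h => hx1 (Subtype.ext h)
        obtain rfl : Q = (hc x hx1').choose := (hc x hx1').choose_spec.2 Q hx
        rfl
      right_inv := fun x => rfl }
  haveI := Fintype.ofFinite (Sylow p H)
  have h := Nat.card_congr e
  rw [Nat.card_sigma] at h
  have hsub : ∀ (α : Type _) [Finite α] (a : α), Nat.card {x : α // x ≠ a} = Nat.card α - 1 := by
    intro α _ a
    haveI := Fintype.ofFinite α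
    rw [Nat.card_eq_fintype_card, Fintype.card_subtype_compl, Fintype.card_subtype_eq,
      Nat.card_eq_fintype_card]
  rw [hsub X 1, Finset.sum_congr rfl fun Q _ => by rw [hsub _ 1, hc.card_fixSub P Q],
    Finset.sum_const, Finset.card_univ, smul_eq_mul, ← Nat.card_eq_fintype_card] at h
  exact h.symm

end Cover

/-- With more than one Sylow subgroup the fixed subgroups are small. -/
theorem Cover.sq_le {p : ℕ} {X : Type*} [CommGroup X] [Finite X] {φ : H →* MulAut X} (hc : Cover p φ)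
    [Fact p.Prime] [Finite H] {P Q : Sylow p H} (hne : P ≠ Q) :
    Nat.card (fixSub φ (P : Subgroup H)) ^ 2 ≤ Nat.card X := by
  rw [sq]
  nth_rewrite 2 [← hc.card_fixSub P Q]
  rw [← Nat.card_prod]
  refine Nat.card_le_card_of_injective
    (fun s : fixSub φ (P : Subgroup H) × fixSub φ (Q : Subgroup H) => (s.1 : X) * s.2) ?_
  rintro ⟨⟨a, ha⟩, ⟨b, hb⟩⟩ ⟨⟨a', ha'⟩, ⟨b', hb'⟩⟩ h
  have h' : a'⁻¹ * a = b' * b⁻¹ := by
    rw [inv_mul_eq_iff_eq_mul, ← mul_assoc, eq_mul_inv_iff_mul_eq]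
    exact h
  have h1 : a'⁻¹ * a = 1 := hc.inter_eq_one hne ((fixSub φ _).mul_mem ((fixSub φ _).inv_mem ha') ha)
    (h' ▸ (fixSub φ _).mul_mem hb' ((fixSub φ _).inv_mem hb))
  have e1 : a = a' := (inv_mul_eq_one.1 h1).symm
  have e2 : b = b' := by
    rw [h1, eq_comm, mul_inv_eq_one] at h'
    exact h'.symm
  subst e1 e2
  rfl


/-- The cover passes to the acting image; non-normality too. -/
theorem cover_range {p : ℕ} [Fact p.Prime] [Finite H] {φ : H →* MulAut X} (hc : Cover p φ) :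
    Cover p φ.range.subtype := by
  intro x hx
  obtain ⟨P, hP, huniq⟩ := hc x hx
  refine ⟨P.mapSurjective φ.rangeRestrict_surjective, ?_, fun Q hQ => ?_⟩
  · rintro _ ⟨h, hh, rfl⟩
    exact hP h hh
  · obtain ⟨Q', rfl⟩ := Sylow.mapSurjective_surjective φ.rangeRestrict_surjective p Q
    rw [huniq Q' fun h hh => hQ _ ⟨h, hh, rfl⟩]

theorem not_normal_range {p : ℕ} [Fact p.Prime] [Finite H] [Nontrivial X] {φ : H →* MulAut X}
    (hc : Cover p φ) {P : Sylow p H} (hP : ¬ (P : Subgroup H).Normal) (Q : Sylow p φ.range) :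
    ¬ (Q : Subgroup φ.range).Normal := by
  intro hQ
  haveI := hQ
  haveI : Finite φ.range := Finite.of_surjective _ φ.rangeRestrict_surjective
  have hcR := cover_range hc
  have htriv : ∀ r ∈ Q, ∀ x : X, (r : MulAut X) x = x := fun r hr x => by
    have := hcR.normal_pGroup_trivial Q.isPGroup' hr
    exact DFunLike.congr_fun this x
  have hall : ∀ (R : Sylow p H) (h : H), h ∈ R → ∀ x : X, φ h x = x := fun R h hh x => by
    haveI := Sylow.unique_of_normal Q hQ
    have hmem : φ.rangeRestrict h ∈ R.mapSurjective φ.rangeRestrict_surjective := ⟨h, hh, rfl⟩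
    rw [Subsingleton.elim (R.mapSurjective φ.rangeRestrict_surjective) Q] at hmem
    exact htriv _ hmem x
  apply hP
  obtain ⟨x, hx⟩ := exists_ne (1 : X)
  obtain ⟨P0, -, huniq⟩ := hc x hx
  have hsub : ∀ R : Sylow p H, R = P := fun R =>
    (huniq R fun h hh => hall R h hh x).trans (huniq P fun h hh => hall P h hh x).symm
  rw [← Subgroup.normalizer_eq_top_iff, eq_top_iff]
  intro g _
  exact Sylow.smul_eq_iff_mem_normalizer.1 (hsub (g • P))

/-- Two partitions by the same number of parts, the smaller space having smaller exponent. -/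
theorem no_two_partitions {ℓ n N b a : ℕ} (hℓ : 2 ≤ ℓ) (hb : 0 < b) (hbN : b < N)
    (ha : 2 * a ≤ N) (hN : n * (ℓ ^ a - 1) = ℓ ^ N - 1) (hdvd : n ∣ ℓ ^ b - 1) : False := by
  have h1 : n ∣ ℓ ^ N - 1 := ⟨_, hN.symm⟩
  have h2 : n ∣ ℓ ^ Nat.gcd N b - 1 := by
    rw [← Nat.pow_sub_one_gcd_pow_sub_one]; exact Nat.dvd_gcd h1 hdvd
  set g := Nat.gcd N b with hg
  have hgpos : 0 < g := Nat.gcd_pos_of_pos_right _ hb
  have hgN : g ∣ N := Nat.gcd_dvd_left _ _
  have hgb : g ≤ b := Nat.le_of_dvd hb (Nat.gcd_dvd_right _ _)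
  have h2g : 2 * g ≤ N := by
    obtain ⟨c, hc⟩ := hgN
    rcases c with _ | _ | c
    · omega
    · omega
    · rw [hc]; nlinarith
  have hle : n ≤ ℓ ^ g - 1 := Nat.le_of_dvd (by
    have := Nat.one_lt_pow hgpos.ne' hℓ
    omega) h2
  have h3 : ℓ ^ N - 1 ≤ (ℓ ^ g - 1) * (ℓ ^ a - 1) := hN ▸ Nat.mul_le_mul_right _ hle
  have h4 : (ℓ ^ g - 1) * (ℓ ^ a - 1) + 1 < ℓ ^ g * ℓ ^ a := by
    have hg1 := Nat.one_lt_pow hgpos.ne' hℓ
    have ha1 : 1 ≤ ℓ ^ a := Nat.one_le_pow _ _ (by omega)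
    obtain ⟨u, hu⟩ := Nat.exists_eq_add_of_le hg1.le
    obtain ⟨v, hv⟩ := Nat.exists_eq_add_of_le ha1
    rw [hu, hv]
    simp only [Nat.add_sub_cancel_left]
    nlinarith
  rw [← pow_add] at h4
  have h5 : ℓ ^ (g + a) ≤ ℓ ^ N := Nat.pow_le_pow_right (by omega) (by omega)
  omega

end Cfsg.Agent.BlocksChars.Palfy
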