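import Mathlib

/-!
# Modules with an odd cover: abelian normal subgroups act through fields
-/

set_option autoImplicit false
set_option linter.style.haveILetI false

namespace Cfsg.Agent.BlocksChars.Palfy

open Module

variable {K : Type*} [Field K] {H : Type*} [Group H] [Finite H] {W : Type*} [AddCommGroup W]
  [Module K W] [Finite W]

/-- The algebra generated by the image of a subgroup. -/
def algB (ρ : Representation K H W) (B : Subgroup H) : Subalgebra K (Module.End K W) :=
  Algebra.adjoin K (ρ '' B)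

theorem mem_algB {ρ : Representation K H W} {B : Subgroup H} {b : H} (hb : b ∈ B) :
    ρ b ∈ algB ρ B := Algebra.subset_adjoin ⟨b, hb, rfl⟩

theorem algB_comm (ρ : Representation K H W) (B : Subgroup H) (hB : IsMulCommutative B)
    {a b : Module.End K W} (ha : a ∈ algB ρ B) (hb : b ∈ algB ρ B) : a * b = b * a := by
  letI := Algebra.adjoinCommRingOfComm K (s := ρ '' (B : Set H)) (by
    rintro _ ⟨x, hx, rfl⟩ _ ⟨y, hy, rfl⟩
    rw [← map_mul, ← map_mul]
    exact congrArg ρ (congrArg Subtype.val (hB.is_comm.comm (⟨x, hx⟩ : B) ⟨y, hy⟩)))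
  exact congrArg Subtype.val (mul_comm (⟨a, ha⟩ : Algebra.adjoin K (ρ '' (B : Set H))) ⟨b, hb⟩)

theorem rho_inv_cancel (ρ : Representation K H W) (h : H) : ρ h⁻¹ * ρ h = 1 := by
  rw [← map_mul, inv_mul_cancel, map_one]

theorem algB_conj (ρ : Representation K H W) (B : Subgroup H) [hBn : B.Normal] (h : H)
    {a : Module.End K W} (ha : a ∈ algB ρ B) : ρ h * a * ρ h⁻¹ ∈ algB ρ B := by
  induction ha using Algebra.adjoin_induction with
  | mem x hx =>
    obtain ⟨b, hb, rfl⟩ := hx
    rw [← map_mul, ← map_mul]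
    exact mem_algB (hBn.conj_mem b hb h)
  | algebraMap r =>
    rw [← Algebra.commutes, mul_assoc, ← map_mul ρ, mul_inv_cancel, map_one, mul_one]
    exact (algB ρ B).algebraMap_mem r
  | add x y _ _ hx hy => rw [mul_add, add_mul]; exact (algB ρ B).add_mem hx hy
  | mul x y _ _ hx hy =>
    have : ρ h * (x * y) * ρ h⁻¹ = ρ h * x * ρ h⁻¹ * (ρ h * y * ρ h⁻¹) := by
      simp only [mul_assoc]
      rw [← mul_assoc (ρ h⁻¹) (ρ h), rho_inv_cancel, one_mul]
    rw [this]; exact (algB ρ B).mul_mem hx hy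

section Components

variable (ρ : Representation K H W) (B : Subgroup H)

/-- The annihilator of a subspace in the algebra. -/
def ann (U : Submodule K W) : Set (Module.End K W) :=
  {a | a ∈ algB ρ B ∧ ∀ u ∈ U, a u = 0}

/-- An invariant subspace on which every element outside the annihilator is injective. -/
structure Good (U : Submodule K W) : Prop where
  ne_bot : U ≠ ⊥
  stable : ∀ a ∈ algB ρ B, ∀ u ∈ U, a u ∈ U
  inj : ∀ a ∈ algB ρ B, a ∉ ann ρ B U → ∀ u ∈ U, a u = 0 → u = 0

/-- Vectors killed by the annihilator. -/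
def comp (U : Submodule K W) : Submodule K W where
  carrier := {w | ∀ a ∈ ann ρ B U, a w = 0}
  zero_mem' a _ := map_zero a
  add_mem' := fun {x y} hx hy a ha => by rw [map_add, hx a ha, hy a ha, add_zero]
  smul_mem' := fun c x hx a ha => by rw [map_smul, hx a ha, smul_zero]

variable {ρ B}

theorem Good.le_comp {U : Submodule K W} : U ≤ comp ρ B U := fun u hu _ ha => ha.2 u hu

theorem Good.exists_pow {U : Submodule K W} (hU : Good ρ B U) {a : Module.End K W}
    (ha : a ∈ algB ρ B) (hna : a ∉ ann ρ B U) : ∃ k, 0 < k ∧ a ^ k - 1 ∈ ann ρ B U := by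
  let e : Equiv.Perm U := Equiv.ofBijective (fun u => ⟨a u, hU.stable a ha u u.2⟩)
    (Finite.injective_iff_bijective.1 fun x y h => Subtype.ext (sub_eq_zero.1
      (hU.inj a ha hna _ (U.sub_mem x.2 y.2) (by
        rw [map_sub, sub_eq_zero]; exact congrArg Subtype.val h))))
  refine ⟨orderOf e, orderOf_pos e, (algB ρ B).sub_mem ((algB ρ B).pow_mem ha _) (algB ρ B).one_mem,
    fun u hu => ?_⟩
  have hpow : ∀ j : ℕ, (a ^ j) u = ((e ^ j) ⟨u, hu⟩ : W) := by
    intro j
    induction j with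
    | zero => simp
    | succ j ih =>
      rw [pow_succ', pow_succ', Module.End.mul_apply, Equiv.Perm.mul_apply, ih]
      rfl
  rw [LinearMap.sub_apply, hpow, pow_orderOf_eq_one]
  simp

theorem Good.eq_zero {U : Submodule K W} (hU : Good ρ B U) {a : Module.End K W}
    (ha : a ∈ algB ρ B) (hna : a ∉ ann ρ B U) {w : W} (hw : w ∈ comp ρ B U) (h0 : a w = 0) :
    w = 0 := by
  obtain ⟨k, hk, hmem⟩ := hU.exists_pow ha hna
  obtain ⟨k, rfl⟩ := Nat.exists_eq_add_of_le hk
  have h := hw _ hmem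
  rw [add_comm, LinearMap.sub_apply, pow_succ, Module.End.mul_apply, h0, map_zero,
    Module.End.one_apply, zero_sub, neg_eq_zero] at h
  exact h

theorem Good.ann_eq {U U' : Submodule K W} (hU : Good ρ B U) (hU' : Good ρ B U')
    (h : ann ρ B U ⊆ ann ρ B U') : ann ρ B U = ann ρ B U' := by
  refine Set.Subset.antisymm h fun a ha => ?_
  by_contra hna
  obtain ⟨u, hu, hu0⟩ := (Submodule.ne_bot_iff U').1 hU'.ne_bot
  obtain ⟨k, hk, hmem⟩ := hU.exists_pow ha.1 hna
  obtain ⟨k, rfl⟩ := Nat.exists_eq_add_of_le hk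
  have h2 := (h hmem).2 u hu
  rw [add_comm, LinearMap.sub_apply, pow_succ, Module.End.mul_apply, ha.2 u hu, map_zero,
    Module.End.one_apply, zero_sub, neg_eq_zero] at h2
  exact hu0 h2

theorem Good.exists_mem_diff {U U' : Submodule K W} (hU : Good ρ B U) (hU' : Good ρ B U')
    (h : ann ρ B U ≠ ann ρ B U') : ∃ a, a ∈ ann ρ B U ∧ a ∉ ann ρ B U' := by
  by_contra hcon
  push Not at hcon
  exact h (hU.ann_eq hU' hcon)

theorem Good.disjoint {U U' : Submodule K W} (hU : Good ρ B U) (hU' : Good ρ B U')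
    (h : ann ρ B U ≠ ann ρ B U') {w : W} (h1 : w ∈ comp ρ B U) (h2 : w ∈ comp ρ B U') : w = 0 := by
  obtain ⟨a, ha, hna⟩ := hU.exists_mem_diff hU' h
  exact hU'.eq_zero ha.1 hna h2 (h1 a ha)

/-- Translate of a subspace. -/
def transl (ρ : Representation K H W) (h : H) (U : Submodule K W) : Submodule K W :=
  U.map (ρ h)

theorem transl_mul (h k : H) (U : Submodule K W) :
    transl ρ (h * k) U = transl ρ h (transl ρ k U) := by
  rw [transl, transl, transl, map_mul, Module.End.mul_eq_comp, Submodule.map_comp]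

theorem transl_one (U : Submodule K W) : transl ρ (1 : H) U = U := by
  rw [transl, map_one, Module.End.one_eq_id, Submodule.map_id]

variable [hBn : B.Normal]

theorem mem_ann_transl {h : H} {U : Submodule K W} {a : Module.End K W} :
    a ∈ ann ρ B (transl ρ h U) ↔ ρ h⁻¹ * a * ρ h ∈ ann ρ B U := by
  have hconj : ∀ {b : Module.End K W}, b ∈ algB ρ B → ρ h⁻¹ * b * ρ h ∈ algB ρ B := fun hb => by
    have := algB_conj ρ B h⁻¹ hb
    rwa [inv_inv] at this
  constructor
  · rintro ⟨ha, h0⟩
    refine ⟨hconj ha, fun u hu => ?_⟩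
    rw [Module.End.mul_apply, Module.End.mul_apply, h0 _ ⟨u, hu, rfl⟩, map_zero]
  · rintro ⟨ha, h0⟩
    refine ⟨?_, ?_⟩
    · have := algB_conj ρ B h ha
      rwa [← mul_assoc, ← mul_assoc, ← map_mul, mul_inv_cancel, map_one, one_mul, mul_assoc,
        ← map_mul, mul_inv_cancel, map_one, mul_one] at this
    · rintro _ ⟨u, hu, rfl⟩
      have := h0 u hu
      rw [Module.End.mul_apply, Module.End.mul_apply] at this
      exact (ρ.apply_bijective h⁻¹).injective (this.trans (map_zero _).symm)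

theorem ann_transl_congr {U U' : Submodule K W} (h : H) (he : ann ρ B U = ann ρ B U') :
    ann ρ B (transl ρ h U) = ann ρ B (transl ρ h U') := by
  ext a
  rw [mem_ann_transl, mem_ann_transl, he]

theorem Good.transl {U : Submodule K W} (hU : Good ρ B U) (h : H) : Good ρ B (transl ρ h U) := by
  have hconj : ∀ {b : Module.End K W}, b ∈ algB ρ B → ρ h⁻¹ * b * ρ h ∈ algB ρ B := fun hb => by
    have := algB_conj ρ B h⁻¹ hb
    rwa [inv_inv] at this
  have hback : ∀ (a : Module.End K W) (u : W), a (ρ h u) = ρ h ((ρ h⁻¹ * a * ρ h) u) := by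
    intro a u
    rw [Module.End.mul_apply, Module.End.mul_apply, ρ.self_inv_apply]
  constructor
  · intro h0
    obtain ⟨u, hu, hu0⟩ := (Submodule.ne_bot_iff U).1 hU.ne_bot
    have : ρ h u ∈ (⊥ : Submodule K W) := h0 ▸ ⟨u, hu, rfl⟩
    exact hu0 ((ρ.apply_bijective h).injective (((Submodule.mem_bot K).1 this).trans (map_zero _).symm))
  · rintro a ha _ ⟨u, hu, rfl⟩
    exact ⟨_, hU.stable _ (hconj ha) u hu, (hback a u).symm⟩
  · rintro a ha hna _ ⟨u, hu, rfl⟩ h0
    rw [hback] at h0
    rw [hU.inj _ (hconj ha) (fun hm => hna (mem_ann_transl.2 hm)) u hu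
      ((ρ.apply_bijective h).injective (h0.trans (map_zero _).symm)), map_zero]

theorem mem_comp_transl {U : Submodule K W} (h : H) {w : W} (hw : w ∈ comp ρ B U) :
    ρ h w ∈ comp ρ B (transl ρ h U) := by
  intro a ha
  have := hw _ (mem_ann_transl.1 ha)
  rw [Module.End.mul_apply, Module.End.mul_apply] at this
  exact (ρ.apply_bijective h⁻¹).injective (this.trans (map_zero _).symm)

variable {p : ℕ} [hp : Fact p.Prime] (hp2 : p ≠ 2)
  (hcov : ∀ v : W, v ≠ 0 → ∃! P : Sylow p H, ∀ h ∈ P, ρ h v = v) (hB : IsMulCommutative B)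

include hp2 hcov hB in
theorem fix_pair {U U' : Submodule K W} (hU : Good ρ B U) (hU' : Good ρ B U')
    (hne : ann ρ B U ≠ ann ρ B U') {v v' : W} (hv : v ∈ comp ρ B U) (hv0 : v ≠ 0)
    (hv' : v' ∈ comp ρ B U') (hv0' : v' ≠ 0) :
    ∃ P : Sylow p H, ∀ x ∈ P, ρ x v = v ∧ ρ x v' = v' := by
  have hsum : v + v' ≠ 0 := fun h0 => hv0 (hU.disjoint hU' hne hv (by
    rw [eq_neg_of_add_eq_zero_left h0]; exact (comp ρ B U').neg_mem hv'))
  obtain ⟨P, hP, -⟩ := hcov _ hsum
  refine ⟨P, fun x hx => ?_⟩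
  have hx0 := hP x hx
  rw [map_add] at hx0
  set U1 := transl ρ x U with hU1
  set U1' := transl ρ x U' with hU1'
  have hinj : ∀ {V V' : Submodule K W}, ann ρ B (transl ρ x V) = ann ρ B (transl ρ x V') →
      ann ρ B V = ann ρ B V' := fun he => by
    have := ann_transl_congr (B := B) x⁻¹ he
    rwa [← transl_mul, ← transl_mul, inv_mul_cancel, transl_one, transl_one] at this
  have hne1 : ann ρ B U1 ≠ ann ρ B U1' := fun he => hne (hinj he)
  have hcase : ∀ {V1 V1' : Submodule K W} {z z' : W}, Good ρ B V1 → Good ρ B V1' →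
      ann ρ B V1 ≠ ann ρ B V1' → z ∈ comp ρ B V1 → z' ∈ comp ρ B V1' → z ≠ 0 → z + z' = v + v' →
      ann ρ B V1 = ann ρ B U ∨ ann ρ B V1 = ann ρ B U' := by
    intro V1 V1' z z' hV1 hV1' hd hz hz' hz0 hsum'
    by_contra hcon
    push Not at hcon
    obtain ⟨h1, h2⟩ := hcon
    obtain ⟨a1, ha1, hn1⟩ := hU.exists_mem_diff hV1 (Ne.symm h1)
    obtain ⟨a2, ha2, hn2⟩ := hU'.exists_mem_diff hV1 (Ne.symm h2)
    obtain ⟨a3, ha3, hn3⟩ := hV1'.exists_mem_diff hV1 hd.symm
    have hprod : a1 * a2 * a3 ∈ algB ρ B :=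
      (algB ρ B).mul_mem ((algB ρ B).mul_mem ha1.1 ha2.1) ha3.1
    have e := congrArg (a1 * a2 * a3) hsum'
    have k3 : (a1 * a2 * a3) z' = 0 := by
      rw [Module.End.mul_apply, hz' a3 ha3, map_zero]
    have k1 : (a1 * a2 * a3) v = 0 := by
      rw [mul_assoc, algB_comm ρ B hB ha1.1 ((algB ρ B).mul_mem ha2.1 ha3.1), Module.End.mul_apply,
        hv a1 ha1, map_zero]
    have k2 : (a1 * a2 * a3) v' = 0 := by
      rw [mul_assoc, algB_comm ρ B hB ha2.1 ha3.1, ← mul_assoc, Module.End.mul_apply,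
        hv' a2 ha2, map_zero]
    rw [map_add, map_add, k3, add_zero, k1, k2, add_zero, Module.End.mul_apply,
      Module.End.mul_apply] at e
    have m3 : a3 z ∈ comp ρ B V1 := fun b hb => by
      rw [← Module.End.mul_apply, algB_comm ρ B hB hb.1 ha3.1, Module.End.mul_apply, hz b hb,
        map_zero]
    have m2 : a2 (a3 z) ∈ comp ρ B V1 := fun b hb => by
      rw [← Module.End.mul_apply, algB_comm ρ B hB hb.1 ha2.1, Module.End.mul_apply, m3 b hb,
        map_zero]
    exact hz0 (hV1.eq_zero ha3.1 hn3 hz (hV1.eq_zero ha2.1 hn2 m3 (hV1.eq_zero ha1.1 hn1 m2 e)))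
  have hxv0 : ρ x v ≠ 0 := fun h => hv0 ((ρ.apply_bijective x).injective (h.trans (map_zero _).symm))
  have hxv0' : ρ x v' ≠ 0 := fun h => hv0' ((ρ.apply_bijective x).injective (h.trans (map_zero _).symm))
  have c1 := hcase (hU.transl x) (hU'.transl x) hne1 (mem_comp_transl x hv)
    (mem_comp_transl x hv') hxv0 hx0
  have c2 := hcase (hU'.transl x) (hU.transl x) hne1.symm (mem_comp_transl x hv')
    (mem_comp_transl x hv) hxv0' (by rw [add_comm]; exact hx0)
  rcases c1 with c1 | c1
  · have c2' : ann ρ B U1' = ann ρ B U' := c2.resolve_left fun h => hne1 (c1.trans h.symm)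
    have hm : ρ x v ∈ comp ρ B U := fun a ha => (mem_comp_transl x hv) a (c1 ▸ ha)
    have hm' : ρ x v' ∈ comp ρ B U' := fun a ha => (mem_comp_transl x hv') a (c2' ▸ ha)
    have e1 : ρ x v - v = v' - ρ x v' := by
      rw [sub_eq_sub_iff_add_eq_add, hx0, add_comm]
    have h0 := hU.disjoint hU' hne ((comp ρ B U).sub_mem hm hv)
      (e1 ▸ (comp ρ B U').sub_mem hv' hm')
    refine ⟨sub_eq_zero.1 h0, ?_⟩
    rw [h0, eq_comm, sub_eq_zero] at e1
    exact e1.symm
  · exfalso
    have c2' : ann ρ B U1' = ann ρ B U := c2.resolve_right fun h => hne1 (c1.trans h.symm)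
    have hj : ∀ j : ℕ, ann ρ B (transl ρ (x ^ (2 * j)) U) = ann ρ B U := by
      intro j
      induction j with
      | zero => rw [Nat.mul_zero, pow_zero, transl_one]
      | succ j ih =>
        rw [show 2 * (j + 1) = 1 + (1 + 2 * j) by ring, pow_add, pow_add, pow_one, transl_mul,
          transl_mul]
        rw [ann_transl_congr x (ann_transl_congr x ih), ann_transl_congr x c1]
        exact c2'
    obtain ⟨k, hk⟩ := IsPGroup.iff_orderOf.1 P.isPGroup' (⟨x, hx⟩ : P)
    rw [Subgroup.orderOf_mk] at hk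
    obtain ⟨j, hj'⟩ := ((hp.out.odd_of_ne_two hp2).pow (n := k))
    have h := hj (j + 1)
    rw [show 2 * (j + 1) = orderOf x + 1 by omega, pow_add, pow_orderOf_eq_one, one_mul, pow_one] at h
    exact hne (h.symm.trans c1)

variable (hρ : Function.Injective ρ) (hpH : p ∣ Nat.card H)
  (hirr : ∀ U : Submodule K W, (∀ h : H, ∀ u ∈ U, ρ h u ∈ U) → U = ⊥ ∨ U = ⊤)

include hp2 hcov hB hρ hpH hirr in
/-- The algebra of an abelian normal subgroup has no zero divisors on the module. -/
theorem algB_injective [Nontrivial W] {a : Module.End K W} (ha : a ∈ algB ρ B) (ha0 : a ≠ 0)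
    {w : W} (h : a w = 0) : w = 0 := by
  obtain ⟨U, ⟨hU0, hUst⟩, hmin⟩ : ∃ U, Minimal (fun U : Submodule K W =>
      U ≠ ⊥ ∧ ∀ a ∈ algB ρ B, ∀ u ∈ U, a u ∈ U) U :=
    exists_minimal_of_wellFoundedLT _ ⟨⊤, top_ne_bot, fun _ _ _ _ => Submodule.mem_top⟩
  have hU : Good ρ B U := by
    refine ⟨hU0, hUst, fun b hb hnb u hu h0 => ?_⟩
    by_contra hu0
    refine hnb ⟨hb, fun z hz => ?_⟩
    have h2 : U ≤ U ⊓ LinearMap.ker b := by
      refine hmin ⟨fun e => hu0 ?_, fun c hc z hz => ⟨hUst c hc z hz.1, ?_⟩⟩ inf_le_left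
      · have : u ∈ U ⊓ LinearMap.ker b := ⟨hu, h0⟩
        rwa [e, Submodule.mem_bot] at this
      · show b (c z) = 0
        rw [← Module.End.mul_apply, algB_comm ρ B hB hb hc, Module.End.mul_apply,
          show b z = 0 from hz.2, map_zero]
    exact (h2 hz).2
  by_cases hall : ∀ k : H, ann ρ B (transl ρ k U) = ann ρ B U
  · have htop : comp ρ B U = ⊤ := (hirr _ fun k z hz b hb =>
      mem_comp_transl k hz b ((hall k).symm ▸ hb)).resolve_left fun e => hU0
        (eq_bot_iff.2 (e ▸ Good.le_comp))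
    have hna : a ∉ ann ρ B U := fun hm => ha0 (LinearMap.ext fun z =>
      (htop.symm ▸ Submodule.mem_top : z ∈ comp ρ B U) a hm)
    exact hU.eq_zero ha hna (htop.symm ▸ Submodule.mem_top) h
  exfalso
  push Not at hall
  obtain ⟨k0, hk0⟩ := hall
  obtain ⟨u0, hu0, hu00⟩ := (Submodule.ne_bot_iff U).1 hU0
  obtain ⟨P0, hP0, huniq⟩ := hcov u0 hu00
  have hpair : ∀ k : H, ann ρ B (transl ρ k U) ≠ ann ρ B U → ∀ z ∈ comp ρ B (transl ρ k U),
      ∀ y ∈ comp ρ B U, z ≠ 0 → y ≠ 0 → ∀ Q : Sylow p H, (∀ x ∈ Q, ρ x y = y) →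
      ∀ x ∈ Q, ρ x z = z := by
    intro k hk z hz y hy hz0 hy0 Q hQ x hx
    obtain ⟨R, hR⟩ := fix_pair hp2 hcov hB hU (hU.transl k) (Ne.symm hk) hy hy0 hz hz0
    have : Q = R := (hcov y hy0).unique hQ fun x hx => (hR x hx).1
    exact (hR x (this ▸ hx)).2
  have hz1 : ρ k0 u0 ≠ 0 := fun h => hu00 ((ρ.apply_bijective k0).injective (h.trans (map_zero _).symm))
  have hU2 : ∀ y ∈ comp ρ B U, ∀ x ∈ P0, ρ x y = y := by
    intro y hy x hx
    rcases eq_or_ne y 0 with rfl | hy0
    · exact map_zero _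
    obtain ⟨Q, hQ, -⟩ := hcov y hy0
    obtain ⟨R, hR, hRu⟩ := hcov _ hz1
    have hzmem : ρ k0 u0 ∈ comp ρ B (transl ρ k0 U) := Good.le_comp ⟨u0, hu0, rfl⟩
    have e1 : P0 = R := hRu P0 (hpair k0 hk0 _ hzmem _ (Good.le_comp hu0) hz1 hu00 P0 hP0)
    have e2 : Q = R := hRu Q (hpair k0 hk0 _ hzmem y hy hz1 hy0 Q hQ)
    exact hQ x (e2 ▸ e1 ▸ hx)
  have hfix : ∀ k : H, ∀ u ∈ U, ∀ x ∈ P0, ρ x (ρ k u) = ρ k u := by
    intro k u hu x hx
    rcases eq_or_ne u 0 with rfl | hu'
    · simp
    have hz0 : ρ k u ≠ 0 := fun h => hu' ((ρ.apply_bijective k).injective (h.trans (map_zero _).symm))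
    by_cases hk : ann ρ B (transl ρ k U) = ann ρ B U
    · refine hU2 _ (fun b hb => ?_) x hx
      exact (Good.le_comp ⟨u, hu, rfl⟩ : ρ k u ∈ comp ρ B (transl ρ k U)) b (hk.symm ▸ hb)
    · exact hpair k hk _ (Good.le_comp ⟨u, hu, rfl⟩) _ (Good.le_comp hu0) hz0 hu00 P0 hP0 x hx
  have hspan : Submodule.span K {z : W | ∃ k : H, ∃ u ∈ U, ρ k u = z} = ⊤ := by
    refine (hirr _ fun k z hz => ?_).resolve_left fun e => hu00 ?_
    · induction hz using Submodule.span_induction with
      | mem z hz =>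
        obtain ⟨k', u, hu, rfl⟩ := hz
        exact Submodule.subset_span ⟨k * k', u, hu, by rw [map_mul, Module.End.mul_apply]⟩
      | zero => rw [map_zero]; exact Submodule.zero_mem _
      | add y z _ _ hy hz => rw [map_add]; exact Submodule.add_mem _ hy hz
      | smul c z _ hz => rw [map_smul]; exact Submodule.smul_mem _ _ hz
    · have : u0 ∈ Submodule.span K {z : W | ∃ k : H, ∃ u ∈ U, ρ k u = z} :=
        Submodule.subset_span ⟨1, u0, hu0, by simp⟩
      rwa [e, Submodule.mem_bot] at this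
  have htriv : ∀ x ∈ P0, x = 1 := by
    intro x hx
    refine hρ ?_
    rw [map_one]
    refine LinearMap.ext_on hspan ?_
    rintro _ ⟨k, u, hu, rfl⟩
    rw [Module.End.one_apply]
    exact hfix k u hu x hx
  have := P0.ne_bot_of_dvd_card hpH
  exact this ((Subgroup.eq_bot_iff_forall _).2 htriv)

end Components

/-- Linear maps commuting with an irreducible one commute with each other. -/
theorem comm_of_irreducible {g x y : Module.End K W}
    (hg : ∀ U : Submodule K W, (∀ u ∈ U, g u ∈ U) → U = ⊥ ∨ U = ⊤)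
    (hx : Commute g x) (hy : Commute g y) : Commute x y := by
  rcases subsingleton_or_nontrivial W with hW | hW
  · exact LinearMap.ext fun _ => Subsingleton.elim _ _
  obtain ⟨v, hv⟩ := exists_ne (0 : W)
  set S : Submodule K W :=
    (Subalgebra.toSubmodule (Algebra.adjoin K {g})).map (LinearMap.applyₗ v) with hS
  have htop : S = ⊤ := by
    refine (hg S ?_).resolve_left fun h => hv ?_
    · rintro _ ⟨a, ha, rfl⟩
      exact ⟨g * a, (Algebra.adjoin K {g}).mul_mem (Algebra.self_mem_adjoin_singleton K g) ha, rfl⟩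
    · have : v ∈ S := ⟨1, (Algebra.adjoin K {g}).one_mem, rfl⟩
      rwa [h, Submodule.mem_bot] at this
  have key : ∀ z : Module.End K W, Commute g z → z ∈ Algebra.adjoin K {g} := by
    intro z hz
    obtain ⟨a, ha, hav⟩ : z v ∈ S := htop ▸ Submodule.mem_top
    have hcomm : ∀ {b c : Module.End K W}, b ∈ Algebra.adjoin K {g} → Commute g c → Commute b c :=
      fun hb hc => (Algebra.commute_of_mem_adjoin_singleton_of_commute hb hc.symm).symm
    suffices z = a from this ▸ ha
    refine LinearMap.ext fun w => ?_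
    obtain ⟨b, hb, rfl⟩ : w ∈ S := htop ▸ Submodule.mem_top
    show z (b v) = a (b v)
    have hga : Commute g a := Algebra.commute_of_mem_adjoin_self ha
    have e1 : z (b v) = b (z v) := LinearMap.congr_fun (hcomm hb hz).eq.symm v
    have e2 : a (b v) = b (a v) := LinearMap.congr_fun (hcomm hb hga).eq.symm v
    rw [e1, e2]
    exact congrArg b hav.symm
  exact (Algebra.commute_of_mem_adjoin_singleton_of_commute (key y hy) hx.symm)

/-- An element of order a primitive prime divisor is irreducible. -/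
theorem irreducible_of_primitive [Finite K] {g : Module.End K W} {t : ℕ} (ht : t.Prime)
    (hgt : g ^ t = 1) (hg1 : g ≠ 1) (htK : ¬ t ∣ Nat.card K)
    (hprim : ∀ k, 0 < k → k < finrank K W → ¬ t ∣ Nat.card K ^ k - 1) :
    ∀ U : Submodule K W, (∀ u ∈ U, g u ∈ U) → U = ⊥ ∨ U = ⊤ := by
  classical
  haveI : Fact t.Prime := ⟨ht⟩
  have hKpos : 1 < Nat.card K := Finite.one_lt_card
  have hginj : Function.Injective g := by
    have h : Function.Injective (g ^ (t - 1) * g : Module.End K W) := by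
      rw [← pow_succ, Nat.sub_add_cancel ht.one_le, hgt]; exact fun a b h => h
    exact Function.Injective.of_comp (f := (g ^ (t - 1) : Module.End K W)) h
  set W0 : Submodule K W := LinearMap.ker (g - 1) with hW0
  have hW0mem : ∀ c, c ∈ W0 ↔ g c = c := fun c => by simp [hW0, LinearMap.mem_ker, sub_eq_zero]
  have hcount : ∀ U : Submodule K W, (∀ u ∈ U, g u ∈ U) →
      Nat.card K ^ finrank K U ≡ Nat.card K ^ finrank K ↥(U ⊓ W0) [MOD t] := by
    intro U hU
    let e : Equiv.Perm U := Equiv.ofBijective (fun u => ⟨g u, hU u u.2⟩)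
      (Finite.injective_iff_bijective.1 fun a b h => Subtype.ext (hginj (congrArg Subtype.val h)))
    have he : e ^ t = 1 := by
      refine Equiv.ext fun u => Subtype.ext ?_
      have : ∀ j : ℕ, ((e ^ j) u : W) = (g ^ j) u := by
        intro j
        induction j with
        | zero => simp
        | succ j ih => rw [pow_succ', pow_succ', Equiv.Perm.mul_apply, Module.End.mul_apply, ← ih]; rfl
      rw [this, hgt]; simp
    haveI := Fintype.ofFinite U
    have hfix := Equiv.Perm.card_compl_support_modEq (p := t) (n := 1) (σ := e) (by rwa [pow_one])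
    have hcard : e.supportᶜ.card = Nat.card ↥(U ⊓ W0) := by
      rw [← Fintype.card_coe, ← Nat.card_eq_fintype_card]
      refine Nat.card_congr
        { toFun := fun u => ⟨u.1.1, u.1.2, (hW0mem _).2 (by
            have h := u.2
            simp only [Finset.mem_compl, Equiv.Perm.mem_support, not_not] at h
            exact congrArg Subtype.val h)⟩
          invFun := fun w => ⟨⟨w.1, w.2.1⟩, by
            simp only [Finset.mem_compl, Equiv.Perm.mem_support, not_not]
            exact Subtype.ext ((hW0mem _).1 w.2.2)⟩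
          left_inv := fun u => rfl
          right_inv := fun w => rfl }
    rw [hcard, ← Nat.card_eq_fintype_card, Module.natCard_eq_pow_finrank (K := K) (V := U),
      Module.natCard_eq_pow_finrank (K := K) (V := ↥(U ⊓ W0))] at hfix
    exact hfix.symm
  have hkey : ∀ {u u0 : ℕ}, u0 ≤ u → u ≤ finrank K W →
      Nat.card K ^ u ≡ Nat.card K ^ u0 [MOD t] → u = u0 ∨ (u = finrank K W ∧ u0 = 0) := by
    intro u u0 hle huN h
    by_cases he : u = u0
    · exact Or.inl he
    have h2 : t ∣ Nat.card K ^ u0 * (Nat.card K ^ (u - u0) - 1) := by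
      rw [Nat.mul_sub, mul_one, ← pow_add, Nat.add_sub_cancel' hle]
      exact (Nat.modEq_iff_dvd' (Nat.pow_le_pow_right hKpos.le hle)).1 h.symm
    by_cases hu0 : u0 = 0
    · subst hu0
      rw [pow_zero, one_mul, Nat.sub_zero] at h2
      exact Or.inr ⟨le_antisymm huN (not_lt.1 fun hlt => hprim u (by omega) hlt h2), rfl⟩
    exfalso
    rcases ht.dvd_mul.1 h2 with h3 | h3
    · exact htK (ht.dvd_of_dvd_pow h3)
    · exact hprim (u - u0) (by omega) (by omega) h3
  have hW0bot : W0 = ⊥ := by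
    have h := hcount ⊤ fun _ _ => Submodule.mem_top
    rw [top_inf_eq, finrank_top] at h
    rcases hkey (Submodule.finrank_le W0) le_rfl h with he | ⟨-, he⟩
    · refine absurd ?_ hg1
      refine LinearMap.ext fun c => ?_
      rw [Module.End.one_apply, ← hW0mem, Submodule.eq_top_of_finrank_eq he.symm]
      exact Submodule.mem_top
    · exact Submodule.finrank_eq_zero.1 he
  intro U hU
  have h := hcount U hU
  rw [hW0bot, inf_bot_eq, finrank_bot] at h
  rcases hkey (Nat.zero_le _) (Submodule.finrank_le U) h with he | ⟨he, -⟩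
  · exact Or.inl (Submodule.finrank_eq_zero.1 he)
  · exact Or.inr (Submodule.eq_top_of_finrank_eq he)

/-- Simultaneous eigenvectors with different eigenvalue functions are independent. -/
theorem linearIndependent_eigen {A V ι X : Type*} [Field A] [AddCommGroup V] [Module A V]
    [Finite ι] (m : ι → V) (hm : ∀ i, m i ≠ 0) (L : X → V →ₗ[A] V) (χ : ι → X → A)
    (hL : ∀ x i, L x (m i) = χ i x • m i) (hχ : Function.Injective χ) : LinearIndependent A m := by
  classical
  haveI := Fintype.ofFinite ι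
  suffices ∀ (s : Finset ι) (c : ι → A), ∑ i ∈ s, c i • m i = 0 → ∀ i ∈ s, c i = 0 by
    exact Fintype.linearIndependent_iff.2 fun c hc i => this Finset.univ c hc i (Finset.mem_univ i)
  intro s
  induction s using Finset.induction with
  | empty => intro c _ i hi; exact absurd hi (Finset.notMem_empty i)
  | @insert j s hj ih =>
    intro c hc
    have hs : ∀ i ∈ s, c i = 0 := by
      intro i hi
      obtain ⟨x, hx⟩ := Function.ne_iff.1 (fun h : χ i = χ j => hj (hχ h ▸ hi))
      have h1 := congrArg (L x) hc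
      rw [map_sum, map_zero] at h1
      have h2 := congrArg (χ j x • ·) hc
      simp only [smul_zero, Finset.smul_sum] at h2
      have h3 : ∑ k ∈ insert j s, (c k * (χ k x - χ j x)) • m k = 0 := by
        rw [← sub_eq_zero.2 (h1.trans h2.symm), ← Finset.sum_sub_distrib]
        refine Finset.sum_congr rfl fun k _ => ?_
        rw [map_smul, hL, smul_smul, smul_smul, ← sub_smul]
        ring_nf
      rw [Finset.sum_insert hj, sub_self, mul_zero, zero_smul, zero_add] at h3
      exact (mul_eq_zero.1 (ih _ h3 i hi)).resolve_right (sub_ne_zero.2 hx)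
    intro i hi
    rcases Finset.mem_insert.1 hi with rfl | hi
    · rw [Finset.sum_insert hj, Finset.sum_eq_zero (fun k hk => by rw [hs k hk, zero_smul]),
        add_zero] at hc
      exact (smul_eq_zero.1 hc).resolve_right (hm i)
    · exact hs i hi

end Cfsg.Agent.BlocksChars.Palfy
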