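import Cfsg.Agent.Lib.CharTheory.SelfDualAbelian
import Mathlib

/-!
# Automorphisms of prime order preserving a non-degenerate pairing

If `g` has prime order `w` and preserves a non-degenerate alternating pairing on an elementary
abelian `s`-group `Y`, then `(w - 1) ^ 2 ≤ |Y|`, with a fixed-point-free action in case of equality.
-/

set_option autoImplicit false
set_option linter.style.haveILetI false

namespace Cfsg.Agent.BlocksChars.Palfy

open Module
open scoped IsMulCommutative

/-- The bound in terms of the moved part. -/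
theorem bound_linear {s : ℕ} [Fact s.Prime] {V : Type*} [AddCommGroup V] [Module (ZMod s) V]
    [Finite V] (T : V →ₗ[ZMod s] V) (B : LinearMap.BilinForm (ZMod s) V)
    (hndl : ∀ x, (∀ y, B x y = 0) → x = 0)
    (hinv : ∀ x y, B (T x) (T y) = B x y) {w : ℕ} (hw : w.Prime) (hw2 : w ≠ 2) (hws : w ≠ s)
    (hTw : T ^ w = 1) (hT1 : T ≠ 1) :
    ∃ U : Submodule (ZMod s) V, (w - 1) ^ 2 ≤ Nat.card U ∧
      ∀ c, T c = c → c ∈ U → c = 0 := by
  classical
  haveI : Fact w.Prime := ⟨hw⟩
  set K : Submodule (ZMod s) V := LinearMap.ker (T - 1) with hK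
  set R : Submodule (ZMod s) V := LinearMap.range (T - 1) with hR
  have hKmem : ∀ c, c ∈ K ↔ T c = c := fun c => by
    simp [hK, LinearMap.mem_ker, sub_eq_zero]
  have hRmem : ∀ r, r ∈ R ↔ ∃ v, T v - v = r := fun r => by simp [hR, LinearMap.mem_range]
  have hTinj : Function.Injective T := by
    have h : Function.Injective (T ^ (w - 1) * T : V →ₗ[ZMod s] V) := by
      rw [← pow_succ, Nat.sub_add_cancel hw.one_le, hTw]; exact fun a b h => h
    exact Function.Injective.of_comp (f := (T ^ (w - 1) : V →ₗ[ZMod s] V)) h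
  -- fixed and moved parts meet trivially
  have hdisj : ∀ c, T c = c → c ∈ R → c = 0 := by
    intro c hc hcR
    obtain ⟨v, hv⟩ := (hRmem c).1 hcR
    have hiter : ∀ j : ℕ, (T ^ j) v = v + (j : ZMod s) • c := by
      intro j
      induction j with
      | zero => simp
      | succ j ih =>
        rw [pow_succ', Module.End.mul_apply, ih, map_add, map_smul, hc,
          show T v = v + c from (sub_eq_iff_eq_add'.1 hv)]
        push_cast
        module
    have h := hiter w
    rw [hTw, Module.End.one_apply, left_eq_add, smul_eq_zero] at h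
    refine h.resolve_left fun hw0 => hws ?_
    rw [ZMod.natCast_eq_zero_iff] at hw0
    exact ((Nat.prime_dvd_prime_iff_eq (Fact.out : s.Prime) hw).1 hw0).symm
  have hcompl : K ⊔ R = ⊤ := by
    refine Submodule.eq_top_of_disjoint _ _ ?_ ?_
    · rw [add_comm, hK, hR, LinearMap.finrank_range_add_finrank_ker]
    · rw [Submodule.disjoint_def]
      exact fun c h1 h2 => hdisj c ((hKmem c).1 h1) h2
  have horth : ∀ c, T c = c → ∀ r ∈ R, B r c = 0 := by
    intro c hc r hr
    obtain ⟨v, rfl⟩ := (hRmem r).1 hr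
    rw [map_sub, LinearMap.sub_apply, sub_eq_zero]
    conv_lhs => rw [← hc]
    exact hinv v c
  have hndR : ∀ x ∈ R, (∀ y ∈ R, B x y = 0) → x = 0 := by
    intro x hx h
    refine hndl x fun y => ?_
    obtain ⟨c, hc, r, hr, rfl⟩ := Submodule.mem_sup.1 (hcompl ▸ Submodule.mem_top : y ∈ K ⊔ R)
    rw [map_add, horth c ((hKmem c).1 hc) x hx, h r hr, add_zero]
  have hTR : ∀ r ∈ R, T r ∈ R := fun r hr => by
    obtain ⟨v, rfl⟩ := (hRmem r).1 hr
    exact (hRmem _).2 ⟨T v, by rw [map_sub]⟩
  -- the order of `s` modulo `w`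
  have hsw : (s : ZMod w) ≠ 0 := fun h => hws (by
    rw [ZMod.natCast_eq_zero_iff] at h
    exact (Nat.prime_dvd_prime_iff_eq hw (Fact.out : s.Prime)).1 h)
  set i := orderOf (s : ZMod w) with hi
  have hipos : 0 < i := by
    rw [hi, orderOf_pos_iff, isOfFinOrder_iff_pow_eq_one]
    exact ⟨w - 1, by have := hw.two_le; omega, ZMod.pow_card_sub_one_eq_one hsw⟩
  have hsi : w ≤ s ^ i := by
    have h : ((s ^ i : ℕ) : ZMod w) = ((1 : ℕ) : ZMod w) := by
      push_cast; exact pow_orderOf_eq_one _
    rw [ZMod.natCast_eq_natCast_iff] at h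
    have h2 := (Nat.modEq_iff_dvd' (Nat.one_le_pow _ _ (Fact.out : s.Prime).pos)).1 h.symm
    have hgt : 1 < s ^ i := Nat.one_lt_pow hipos.ne' (Fact.out : s.Prime).one_lt
    have := Nat.le_of_dvd (by omega) h2
    omega
  -- dimensions of invariant submodules of `R` are multiples of `i`
  have hmult : ∀ U : Submodule (ZMod s) V, U ≤ R → (∀ u ∈ U, T u ∈ U) →
      i ∣ finrank (ZMod s) U := by
    intro U hUR hU
    let TU : Equiv.Perm U := Equiv.ofBijective (fun u => ⟨T u, hU u u.2⟩)
      (Finite.injective_iff_bijective.1 fun a b h => Subtype.ext (hTinj (congrArg Subtype.val h)))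
    have hTUw : TU ^ w = 1 := by
      refine Equiv.ext fun u => Subtype.ext ?_
      have : ∀ j : ℕ, ((TU ^ j) u : V) = (T ^ j) u := by
        intro j
        induction j with
        | zero => simp
        | succ j ih =>
          rw [pow_succ', pow_succ', Equiv.Perm.mul_apply, Module.End.mul_apply, ← ih]
          rfl
      rw [this, hTw]; simp
    haveI := Fintype.ofFinite U
    have hfix := Equiv.Perm.card_compl_support_modEq (p := w) (n := 1) (σ := TU) (by rwa [pow_one])
    have hsupp : TU.supportᶜ = {0} := by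
      ext u
      simp only [Finset.mem_compl, Equiv.Perm.mem_support, not_not, Finset.mem_singleton]
      refine ⟨fun h => Subtype.ext (hdisj u (congrArg Subtype.val h) (hUR u.2)), fun h => ?_⟩
      subst h
      exact Subtype.ext (map_zero T)
    rw [hsupp, Finset.card_singleton, ← Nat.card_eq_fintype_card,
      Module.natCard_eq_pow_finrank (K := ZMod s), Nat.card_zmod] at hfix
    rw [hi]
    refine orderOf_dvd_of_pow_eq_one ?_
    have h := (ZMod.natCast_eq_natCast_iff _ _ w).2 hfix
    push_cast at h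
    exact h.symm
  refine ⟨R, ?_, hdisj⟩
  have hRne : R ≠ ⊥ := fun h => hT1 (sub_eq_zero.1 (LinearMap.range_eq_bot.1 h))
  have hcardR : Nat.card R = s ^ finrank (ZMod s) R := by
    rw [Module.natCard_eq_pow_finrank (K := ZMod s), Nat.card_zmod]
  have hRpos : 0 < finrank (ZMod s) R := by
    rw [Nat.pos_iff_ne_zero, ne_eq, Submodule.finrank_eq_zero]; exact hRne
  obtain ⟨m, hm⟩ := hmult R le_rfl hTR
  rw [hcardR]
  rcases m with _ | _ | m
  · rw [mul_zero] at hm; omega
  · -- irreducible moved part: self-dual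
    rw [show i * (0 + 1) = i by ring] at hm
    let T' : R →ₗ[ZMod s] R := T.restrict hTR
    have hT'w : T' ^ w = 1 := by
      refine LinearMap.ext fun r => Subtype.ext ?_
      rw [Module.End.pow_restrict]
      simp [hTw]
    let u : (R →ₗ[ZMod s] R)ˣ := Units.ofPowEqOne T' w hT'w hw.ne_zero
    have hu : u ^ w = 1 := Units.ext (by rw [Units.val_pow_eq_pow_val]; exact hT'w)
    have hu1 : u ≠ 1 := by
      intro h
      obtain ⟨r, hr, hr0⟩ := (Submodule.ne_bot_iff R).1 hRne
      refine hr0 (hdisj r ?_ hr)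
      have := congrArg Subtype.val (LinearMap.congr_fun (congrArg Units.val h) ⟨r, hr⟩)
      exact this
    let ρ : Representation (ZMod s) (Subgroup.zpowers u) R :=
      (Units.coeHom (R →ₗ[ZMod s] R)).comp (Subgroup.zpowers u).subtype
    have hcardH : Nat.card (Subgroup.zpowers u) = w := by
      rw [Nat.card_zpowers]; exact orderOf_eq_prime hu hu1
    haveI : Finite (Subgroup.zpowers u) := Nat.finite_of_card_ne_zero (by rw [hcardH]; exact hw.ne_zero)
    have hfaith : Function.Injective ρ :=
      Units.val_injective.comp Subtype.val_injective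
    have hirr : ∀ U : Submodule (ZMod s) R, (∀ h, ∀ x ∈ U, ρ h x ∈ U) → U = ⊥ ∨ U = ⊤ := by
      intro U hU
      have hU' : ∀ x ∈ U.map R.subtype, T x ∈ U.map R.subtype := by
        rintro _ ⟨x, hx, rfl⟩
        exact ⟨_, hU ⟨u, Subgroup.mem_zpowers u⟩ x hx, rfl⟩
      have hd := hmult _ (Submodule.map_subtype_le R U) hU'
      rw [Submodule.finrank_map_subtype_eq] at hd
      rcases Nat.eq_zero_or_pos (finrank (ZMod s) U) with h | h
      · exact Or.inl (Submodule.finrank_eq_zero.1 h)
      · refine Or.inr (Submodule.eq_top_of_finrank_eq (le_antisymm (Submodule.finrank_le U) ?_))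
        rw [hm]; exact Nat.le_of_dvd h hd
    let B' : LinearMap.BilinForm (ZMod s) R := B.compl₁₂ R.subtype R.subtype
    have hB' : B'.Nondegenerate := by
      have hl : B'.SeparatingLeft := fun x hx => Subtype.ext
        (hndR x x.2 fun y hy => hx ⟨y, hy⟩)
      exact ⟨hl, LinearMap.BilinForm.nondegenerate_iff_ker_eq_bot.2
        (LinearMap.separatingLeft_iff_ker_eq_bot.1 hl) |>.2⟩
    have hBinv : ∀ h : Subgroup.zpowers u, ∀ x y : R, B' (ρ h x) (ρ h y) = B' x y := by
      rintro ⟨h, hh⟩
      obtain ⟨j, rfl⟩ := ((isOfFinOrder_iff_pow_eq_one.2 ⟨w, hw.pos, hu⟩ : IsOfFinOrder u).mem_powers_iff_mem_zpowers).2 hh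
      show ∀ x y : R, B' (((u ^ j : (R →ₗ[ZMod s] R)ˣ) : R →ₗ[ZMod s] R) x)
        (((u ^ j : (R →ₗ[ZMod s] R)ˣ) : R →ₗ[ZMod s] R) y) = B' x y
      clear hh
      induction j with
      | zero => simp
      | succ j ih =>
        intro x y
        rw [pow_succ, Units.val_mul, Module.End.mul_apply, Module.End.mul_apply, ih]
        exact hinv x y
    obtain ⟨h1, h2⟩ := CharTheory.SelfDualAbelian.main ρ hfaith hirr
    rcases Nat.lt_or_ge (finrank (ZMod s) R) 2 with hlt | hge
    · exfalso
      have := h1 (by omega) ⟨B', hB', hBinv⟩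
      rw [hcardH] at this
      have := hw.two_le
      omega
    obtain ⟨⟨k, hk⟩, hdiv⟩ := (h2 hge).1 ⟨B', hB', hBinv⟩
    rw [hcardH, ZMod.card, hk, show (k + k) / 2 = k by omega] at hdiv
    have := Nat.le_of_dvd (by positivity) hdiv
    rw [hk, pow_add, ← sq]
    exact Nat.pow_le_pow_left (by omega) 2
  · calc (w - 1) ^ 2 ≤ (s ^ i) ^ 2 := Nat.pow_le_pow_left (by omega) 2
      _ = s ^ (i * 2) := by rw [← pow_mul]
      _ ≤ s ^ finrank (ZMod s) R := Nat.pow_le_pow_right (Fact.out : s.Prime).pos
          (hm ▸ Nat.mul_le_mul_left _ (by omega))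

/-- The bound for a group with a pairing into a cyclic group of order `s`. -/
theorem bound {s : ℕ} [Fact s.Prime] {Y : Type*} [CommGroup Y] [Finite Y]
    (hexp : ∀ y : Y, y ^ s = 1) {Z : Type*} [CommGroup Z] [Finite Z] (hZ : Nat.card Z = s)
    (β : Y →* Y →* Z) (hnd : ∀ x, (∀ y, β x y = 1) → x = 1) (g : MulAut Y)
    (hinv : ∀ x y, β (g x) (g y) = β x y) {w : ℕ} (hw : w.Prime) (hw2 : w ≠ 2) (hws : w ≠ s)
    (hgw : g ^ w = 1) (hg1 : g ≠ 1) :
    (w - 1) ^ 2 ≤ Nat.card Y ∧ ((w - 1) ^ 2 = Nat.card Y → ∀ y : Y, g y = y → y = 1) := by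
  letI : Module (ZMod s) (Additive Y) := AddCommGroup.zmodModule (n := s) fun y => hexp y.toMul
  haveI : IsCyclic Z := isCyclic_of_prime_card hZ
  let e0 : Z ≃* Multiplicative (ZMod s) :=
    (zmodCyclicMulEquiv (inferInstance : IsCyclic Z)).symm.trans
      (AddEquiv.toMultiplicative (ZMod.ringEquivCongr hZ).toAddEquiv)
  let lg : Additive Z →+ ZMod s :=
    { toFun := fun z => (e0 z.toMul).toAdd
      map_zero' := by simp
      map_add' := fun a b => by simp }
  let B0 : Additive Y →+ Additive Y →+ ZMod s :=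
    AddMonoidHom.mk' (fun x => lg.comp (MonoidHom.toAdditive (β x.toMul))) fun x y => by
      ext z; simp [lg]
  let B : LinearMap.BilinForm (ZMod s) (Additive Y) :=
    LinearMap.mk₂ (ZMod s) (fun x y => B0 x y)
      (fun a b c => by simp)
      (fun c a b => by rw [ZMod.map_smul B0 c a]; simp)
      (fun a b c => by simp)
      (fun c a b => ZMod.map_smul (B0 a) c b)
  let T : Additive Y →ₗ[ZMod s] Additive Y :=
    (MonoidHom.toAdditive g.toMonoidHom).toZModLinearMap s
  have hTpow : ∀ (j : ℕ) (y : Additive Y), ((T ^ j) y).toMul = (g ^ j) y.toMul := by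
    intro j
    induction j with
    | zero => intro y; simp
    | succ j ih => intro y; rw [pow_succ', pow_succ', Module.End.mul_apply, MulAut.mul_apply, ← ih]; rfl
  have hzero : ∀ z : Z, lg (Additive.ofMul z) = 0 → z = 1 := fun z hz => by
    have : e0 z = 1 := hz
    exact e0.injective (this.trans (map_one e0).symm)
  obtain ⟨U, hU, hUfix⟩ := bound_linear T B
    (fun x hx => congrArg Additive.ofMul (hnd x.toMul fun y => hzero _ (hx (Additive.ofMul y))))
    (fun x y => congrArg (fun z => lg (Additive.ofMul z)) (hinv x.toMul y.toMul)) hw hw2 hws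
    (LinearMap.ext fun y => Additive.toMul.injective (by rw [hTpow, hgw]; rfl))
    (fun h => hg1 (MulEquiv.ext fun y => by
      have := congrArg (fun f : Additive Y →ₗ[ZMod s] Additive Y => (f (Additive.ofMul y)).toMul) h
      exact this))
  have hcard : Nat.card (Additive Y) = Nat.card Y := Nat.card_congr Additive.toMul
  refine ⟨hU.trans (hcard ▸ Nat.card_le_card_of_injective _ Subtype.val_injective), fun heq y hy => ?_⟩
  have htop : U = ⊤ := by
    rw [eq_top_iff]
    intro v _
    have hb := ((Nat.bijective_iff_injective_and_card (Subtype.val : U → Additive Y)).2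
      ⟨Subtype.val_injective, le_antisymm (Nat.card_le_card_of_injective _ Subtype.val_injective)
        (by omega)⟩).2 v
    obtain ⟨a, rfl⟩ := hb
    exact a.2
  exact congrArg Additive.toMul (hUfix (Additive.ofMul y) (congrArg Additive.ofMul hy)
    (htop ▸ Submodule.mem_top))

end Cfsg.Agent.BlocksChars.Palfy
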