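import Cfsg.Agent.BlocksChars.Palfy.Field
import Cfsg.Agent.BlocksChars.Palfy.Symplectic
import Cfsg.Agent.Lib.Hall.MinimalNormal

/-!
# A normal subgroup of class two inside the centralizer of a maximal abelian normal subgroup

`B` acts through a field `A` on `W` and `M / B` is elementary abelian with the commutator pairing.
-/

set_option autoImplicit false
set_option linter.style.haveILetI false
set_option linter.unusedSectionVars false

namespace Cfsg.Agent.BlocksChars.Palfy

open Module
open scoped IsMulCommutative commutatorElement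

variable {H : Type*} [Group H] [Finite H] {ℓ : ℕ} [Fact ℓ.Prime] {W : Type*} [AddCommGroup W]
  [Module (ZMod ℓ) W] [Finite W]

/-- The data. -/
structure Frame (ρ : Representation (ZMod ℓ) H W) where
  B : Subgroup H
  M : Subgroup H
  s : ℕ
  prime_s : s.Prime
  normB : B.Normal
  normM : M.Normal
  commB : IsMulCommutative B
  le : B ≤ M
  le_cent : M ≤ Subgroup.centralizer (B : Set H)
  ne : M ≠ B
  powMem : ∀ m ∈ M, m ^ s ∈ B
  comm_mem : ∀ m ∈ M, ∀ m' ∈ M, ⁅m, m'⁆ ∈ B
  center_le : ∀ m ∈ M, (∀ m' ∈ M, m * m' = m' * m) → m ∈ B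
  maximal : ∀ D : Subgroup H, D.Normal → IsMulCommutative D → B ≤ D → D = B
  noZero : ∀ a ∈ algB ρ B, a ≠ 0 → ∀ w : W, a w = 0 → w = 0
  inj : Function.Injective ρ

/-- Existence, for a solvable group in which `B` is not self-centralizing. -/
theorem exists_frame [Group.IsSolvable H] (ρ : Representation (ZMod ℓ) H W)
    (hρ : Function.Injective ρ) (B : Subgroup H) [B.Normal] (hB : IsMulCommutative B)
    (hmax : ∀ D : Subgroup H, D.Normal → IsMulCommutative D → B ≤ D → D = B)
    (hno : ∀ a ∈ algB ρ B, a ≠ 0 → ∀ w : W, a w = 0 → w = 0)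
    (hC : Subgroup.centralizer (B : Set H) ≠ B) : Nonempty (Frame ρ) := by
  haveI := hB
  set C := Subgroup.centralizer (B : Set H) with hCdef
  have hBC : B ≤ C := fun b hb => Subgroup.mem_centralizer_iff.2 fun c hc =>
    congrArg Subtype.val (hB.is_comm.comm (⟨c, hc⟩ : B) ⟨b, hb⟩)
  set π := QuotientGroup.mk' B with hπ
  have hne : C.map π ≠ ⊥ := fun h => hC (le_antisymm (by
    rw [Subgroup.map_eq_bot_iff, hπ, QuotientGroup.ker_mk'] at h; exact h) hBC)
  haveI : (C.map π).Normal :=
    Subgroup.Normal.map inferInstance π (QuotientGroup.mk'_surjective B)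
  obtain ⟨Y, hYn, hYC, hY0, hmin⟩ := Hall.exists_minimal_normal (C.map π) hne
  haveI := hYn
  obtain ⟨s, hs, -, -, hel⟩ := Hall.minimal_normal_isElementaryAbelian hY0 hmin
  set M := Y.comap π with hM
  haveI : M.Normal := hYn.comap π
  have hBM : B ≤ M := fun b hb => by
    rw [hM, Subgroup.mem_comap, hπ, QuotientGroup.mk'_apply, (QuotientGroup.eq_one_iff b).2 hb]
    exact Y.one_mem
  have hMC : M ≤ C := fun m hm => by
    obtain ⟨c, hc, hcm⟩ := hYC hm
    rw [hπ, QuotientGroup.mk'_eq_mk'] at hcm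
    obtain ⟨b, hb, rfl⟩ := hcm
    exact C.mul_mem hc (hBC hb)
  have hMne : M ≠ B := fun h => hY0 (by
    rw [← Subgroup.map_comap_eq_self_of_surjective (QuotientGroup.mk'_surjective B) Y, ← hπ, ← hM, h,
      hπ, QuotientGroup.map_mk'_self])
  have hcen : ∀ m ∈ M, (∀ m' ∈ M, m * m' = m' * m) → m ∈ B := by
    intro m hm hall
    have h := hmax ((Subgroup.center M).map M.subtype) inferInstance inferInstance (fun b hb =>
      ⟨⟨b, hBM hb⟩, Subgroup.mem_center_iff.2 fun x => Subtype.ext
        (Subgroup.mem_centralizer_iff.1 (hMC x.2) b hb).symm, rfl⟩)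
    rw [← h]
    exact ⟨⟨m, hm⟩, Subgroup.mem_center_iff.2 fun x => Subtype.ext (hall x x.2).symm, rfl⟩
  refine ⟨{ B := B, M := M, s := s, prime_s := hs, normB := inferInstance, normM := inferInstance
            commB := hB, le := hBM, le_cent := hMC, ne := hMne, center_le := hcen, maximal := hmax
            noZero := hno, inj := hρ, powMem := ?_, comm_mem := ?_ }⟩
  · intro m hm
    rw [← QuotientGroup.eq_one_iff, QuotientGroup.mk_pow]
    exact hel.2 _ hm
  · intro m hm m' hm'
    rw [← QuotientGroup.eq_one_iff, ← QuotientGroup.mk'_apply B, map_commutatorElement,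
      commutatorElement_eq_one_iff_commute]
    exact congrArg Subtype.val (hel.1.is_comm.comm (⟨π m, hm⟩ : Y) ⟨π m', hm'⟩)

namespace Frame

variable {ρ : Representation (ZMod ℓ) H W} (F : Frame ρ)

local instance fB : F.B.Normal := F.normB
local instance fM : F.M.Normal := F.normM
local instance fs : Fact F.s.Prime := ⟨F.prime_s⟩

/-- `M / B`. -/
abbrev Y : Subgroup (H ⧸ F.B) := F.M.map (QuotientGroup.mk' F.B)

local instance fY : (F.Y).Normal := F.normM.map _ (QuotientGroup.mk'_surjective F.B)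

theorem card_Y : Nat.card F.Y = F.B.relIndex F.M := by
  rw [← Subgroup.relIndex_ker (f := QuotientGroup.mk' F.B), QuotientGroup.ker_mk']

theorem commY : IsMulCommutative F.Y := by
  refine ⟨⟨fun a b => Subtype.ext ?_⟩⟩
  obtain ⟨m, hm, hma⟩ := a.2
  obtain ⟨m', hm', hmb⟩ := b.2
  simp only [Subgroup.coe_mul]
  rw [← hma, ← hmb, ← commutatorElement_eq_one_iff_mul_comm, ← map_commutatorElement,
    QuotientGroup.mk'_apply, QuotientGroup.eq_one_iff]
  exact F.comm_mem m hm m' hm'

local instance fYc : IsMulCommutative F.Y := F.commY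

theorem expY (y : F.Y) : y ^ F.s = 1 := by
  obtain ⟨m, hm, hmy⟩ := y.2
  refine Subtype.ext ?_
  rw [SubmonoidClass.coe_pow, ← hmy, ← map_pow, QuotientGroup.mk'_apply, OneMemClass.coe_one,
    QuotientGroup.eq_one_iff]
  exact F.powMem m hm

theorem exists_card_Y : ∃ k, F.B.relIndex F.M = F.s ^ k := by
  rw [← F.card_Y]
  exact IsPGroup.iff_card.1 fun y => ⟨1, by rw [pow_one]; exact F.expY y⟩

theorem out_mem (y : F.Y) : (y : H ⧸ F.B).out ∈ F.M := by
  obtain ⟨m, hm, hmy⟩ := y.2
  obtain ⟨b, hb⟩ := QuotientGroup.mk_out_eq_mul F.B m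
  rw [← hmy, QuotientGroup.mk'_apply, hb]
  exact F.M.mul_mem hm (F.le b.2)

theorem central {b : H} (hb : b ∈ F.B) {m : H} (hm : m ∈ F.M) : b * m = m * b :=
  Subgroup.mem_centralizer_iff.1 (F.le_cent hm) b hb

theorem commutator_mul_left {a b c : H} (ha : a ∈ F.M) (hb : b ∈ F.M) (hc : c ∈ F.M) :
    ⁅a * b, c⁆ = ⁅a, c⁆ * ⁅b, c⁆ := by
  have h1 : ⁅a * b, c⁆ = a * ⁅b, c⁆ * a⁻¹ * ⁅a, c⁆ := by simp [commutatorElement_def, mul_assoc]
  rw [h1, ← F.central (F.comm_mem b hb c hc) ha]
  rw [show ⁅b, c⁆ * a * a⁻¹ * ⁅a, c⁆ = ⁅b, c⁆ * ⁅a, c⁆ by group]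
  exact F.central (F.comm_mem b hb c hc) (F.le (F.comm_mem a ha c hc))

theorem commutator_pow {a c : H} (ha : a ∈ F.M) (hc : c ∈ F.M) (j : ℕ) :
    ⁅a ^ j, c⁆ = ⁅a, c⁆ ^ j := by
  induction j with
  | zero => simp [commutatorElement_def]
  | succ j ih => rw [pow_succ, F.commutator_mul_left (pow_mem ha j) ha hc, ih, pow_succ]

/-- The elements of `B` killed by `s`. -/
abbrev Z : Subgroup H :=
  { carrier := {b | b ∈ F.B ∧ b ^ F.s = 1}
    one_mem' := ⟨F.B.one_mem, one_pow _⟩
    mul_mem' := fun {a b} ha hb => ⟨F.B.mul_mem ha.1 hb.1, by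
      have hab : Commute a b := F.central ha.1 (F.le hb.1)
      rw [hab.mul_pow, ha.2, hb.2, one_mul]⟩
    inv_mem' := fun {a} ha => ⟨F.B.inv_mem ha.1, by rw [inv_pow, ha.2, inv_one]⟩ }

local instance fZ : IsMulCommutative F.Z :=
  ⟨⟨fun a b => Subtype.ext (F.central a.2.1 (F.le b.2.1))⟩⟩

theorem commutator_mem_Z {m m' : H} (hm : m ∈ F.M) (hm' : m' ∈ F.M) : ⁅m, m'⁆ ∈ F.Z := by
  refine ⟨F.comm_mem m hm m' hm', ?_⟩
  rw [← F.commutator_pow hm hm', commutatorElement_eq_one_iff_mul_comm]
  exact F.central (F.powMem m hm) hm'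

theorem commutator_out (y y' : F.Y) {m m' : H} (hm : m ∈ F.M) (hm' : m' ∈ F.M)
    (h : QuotientGroup.mk' F.B m = y) (h' : QuotientGroup.mk' F.B m' = y') :
    ⁅(y : H ⧸ F.B).out, (y' : H ⧸ F.B).out⁆ = ⁅m, m'⁆ := by
  obtain ⟨b, hb⟩ := QuotientGroup.mk_out_eq_mul F.B m
  obtain ⟨b', hb'⟩ := QuotientGroup.mk_out_eq_mul F.B m'
  rw [← h, ← h', QuotientGroup.mk'_apply, QuotientGroup.mk'_apply, hb, hb']
  have hz : ∀ (c : F.B) (z : H), z ∈ F.M → ⁅(c : H), z⁆ = 1 := fun c z hz =>
    commutatorElement_eq_one_iff_mul_comm.2 (F.central c.2 hz)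
  rw [F.commutator_mul_left hm (F.le b.2) (F.M.mul_mem hm' (F.le b'.2)),
    hz b _ (F.M.mul_mem hm' (F.le b'.2)), mul_one, ← inv_inj, commutatorElement_inv,
    commutatorElement_inv, F.commutator_mul_left hm' (F.le b'.2) hm, hz b' _ hm, mul_one]

/-- The commutator pairing. -/
noncomputable def pairing : F.Y →* F.Y →* F.Z where
  toFun y :=
    { toFun := fun y' => ⟨⁅(y : H ⧸ F.B).out, (y' : H ⧸ F.B).out⁆,
        F.commutator_mem_Z (F.out_mem y) (F.out_mem y')⟩
      map_one' := Subtype.ext (by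
        show ⁅(y : H ⧸ F.B).out, ((1 : F.Y) : H ⧸ F.B).out⁆ = 1
        rw [F.commutator_out y 1 (F.out_mem y) F.M.one_mem (QuotientGroup.out_eq' _) (map_one _)]
        exact commutatorElement_one_right _)
      map_mul' := fun a b => Subtype.ext (by
        show ⁅(y : H ⧸ F.B).out, ((a * b : F.Y) : H ⧸ F.B).out⁆ =
          ⁅(y : H ⧸ F.B).out, (a : H ⧸ F.B).out⁆ * ⁅(y : H ⧸ F.B).out, (b : H ⧸ F.B).out⁆
        have hy := F.out_mem y
        rw [F.commutator_out y (a * b) hy (F.M.mul_mem (F.out_mem a) (F.out_mem b))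
          (QuotientGroup.out_eq' _)
          (by rw [map_mul, QuotientGroup.mk'_apply, QuotientGroup.mk'_apply, QuotientGroup.out_eq',
            QuotientGroup.out_eq', Subgroup.coe_mul])]
        rw [← inv_inj, mul_inv_rev, commutatorElement_inv, commutatorElement_inv,
          commutatorElement_inv, F.commutator_mul_left (F.out_mem a) (F.out_mem b) hy]
        exact F.central (F.comm_mem _ (F.out_mem a) _ hy) (F.le (F.comm_mem _ (F.out_mem b) _ hy))) }
  map_one' := MonoidHom.ext fun y' => Subtype.ext (by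
    show ⁅((1 : F.Y) : H ⧸ F.B).out, (y' : H ⧸ F.B).out⁆ = 1
    rw [F.commutator_out 1 y' F.M.one_mem (F.out_mem y') (map_one _) (QuotientGroup.out_eq' _)]
    exact commutatorElement_one_left _)
  map_mul' := fun a b => MonoidHom.ext fun y' => Subtype.ext (by
    show ⁅((a * b : F.Y) : H ⧸ F.B).out, (y' : H ⧸ F.B).out⁆ =
      ⁅(a : H ⧸ F.B).out, (y' : H ⧸ F.B).out⁆ * ⁅(b : H ⧸ F.B).out, (y' : H ⧸ F.B).out⁆
    rw [F.commutator_out (a * b) y' (F.M.mul_mem (F.out_mem a) (F.out_mem b)) (F.out_mem y')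
      (by rw [map_mul, QuotientGroup.mk'_apply, QuotientGroup.mk'_apply, QuotientGroup.out_eq',
        QuotientGroup.out_eq', Subgroup.coe_mul]) (QuotientGroup.out_eq' _)]
    exact F.commutator_mul_left (F.out_mem a) (F.out_mem b) (F.out_mem y'))

theorem pairing_apply {y y' : F.Y} {m m' : H} (hm : m ∈ F.M) (hm' : m' ∈ F.M)
    (h : QuotientGroup.mk' F.B m = y) (h' : QuotientGroup.mk' F.B m' = y') :
    (F.pairing y y' : H) = ⁅m, m'⁆ :=
  F.commutator_out y y' hm hm' h h'

theorem pairing_nondeg {x : F.Y} (h : ∀ y, F.pairing x y = 1) : x = 1 := by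
  refine Subtype.ext ?_
  rw [OneMemClass.coe_one, ← QuotientGroup.out_eq' (x : H ⧸ F.B), QuotientGroup.eq_one_iff]
  refine F.center_le _ (F.out_mem x) fun m hm => commutatorElement_eq_one_iff_mul_comm.1 ?_
  have h' := congrArg Subtype.val (h ⟨_, m, hm, rfl⟩)
  rwa [F.pairing_apply (F.out_mem x) hm (QuotientGroup.out_eq' _) rfl, OneMemClass.coe_one] at h'

theorem sq_le_card : F.s ^ 2 ≤ F.B.relIndex F.M := by
  obtain ⟨k, hk⟩ := F.exists_card_Y
  rw [hk]
  refine Nat.pow_le_pow_right F.prime_s.pos ?_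
  by_contra hk2
  rcases Nat.le_one_iff_eq_zero_or_eq_one.1 (by omega : k ≤ 1) with rfl | rfl
  · rw [pow_zero, Subgroup.relIndex_eq_one] at hk
    exact F.ne (le_antisymm hk F.le)
  · rw [pow_one, ← F.card_Y] at hk
    haveI : IsCyclic F.Y := isCyclic_of_prime_card hk
    obtain ⟨g, hg⟩ := IsCyclic.exists_generator (α := F.Y)
    have hgg : F.pairing g g = 1 := Subtype.ext (by
      rw [F.pairing_apply (F.out_mem g) (F.out_mem g) (QuotientGroup.out_eq' _)
        (QuotientGroup.out_eq' _), commutatorElement_self]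
      rfl)
    have hg1 : g = 1 := F.pairing_nondeg fun y => by
      obtain ⟨j, rfl⟩ := Subgroup.mem_zpowers_iff.1 (hg y)
      rw [map_zpow, hgg, one_zpow]
    have hall : ∀ y : F.Y, y = 1 := fun y => by
      obtain ⟨j, rfl⟩ := Subgroup.mem_zpowers_iff.1 (hg y)
      rw [hg1, one_zpow]
    haveI : Subsingleton F.Y := ⟨fun a b => by rw [hall a, hall b]⟩
    rw [Nat.card_unique] at hk
    exact F.prime_s.ne_one hk.symm

/-- The conjugation action on `M / B`. -/
noncomputable def act : H →* MulAut F.Y :=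
  (MulAut.conjNormal (H := F.Y)).comp (QuotientGroup.mk' F.B)

theorem act_mk (g : H) {y : F.Y} {m : H} (h : QuotientGroup.mk' F.B m = y) :
    QuotientGroup.mk' F.B (g * m * g⁻¹) = (F.act g y : H ⧸ F.B) := by
  rw [act, MonoidHom.comp_apply, MulAut.conjNormal_apply, map_mul, map_mul, map_inv, h]

/-- No element of `M ∖ B` is centralized by `g` modulo `B`. -/
def Free (g : H) : Prop := ∀ m ∈ F.M, ⁅g, m⁆ ∈ F.B → m ∈ F.B

theorem free_iff (g : H) : F.Free g ↔ ∀ y, F.act g y = y → y = 1 := by
  have key : ∀ m, ⁅g, m⁆ ∈ F.B ↔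
      QuotientGroup.mk' F.B (g * m * g⁻¹) = QuotientGroup.mk' F.B m := fun m => by
    rw [← QuotientGroup.eq_one_iff, ← QuotientGroup.mk'_apply F.B, commutatorElement_def, map_mul,
      map_inv _ m, mul_inv_eq_one]
  constructor
  · intro hf y hy
    have h : QuotientGroup.mk' F.B (y : H ⧸ F.B).out = y := QuotientGroup.out_eq' _
    refine Subtype.ext ?_
    rw [OneMemClass.coe_one, ← h, QuotientGroup.mk'_apply, QuotientGroup.eq_one_iff]
    refine hf _ (F.out_mem y) ((key _).2 ?_)
    rw [F.act_mk g h, hy, h]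
  · intro hf m hm hc
    rw [key] at hc
    have h := hf ⟨_, m, hm, rfl⟩ (Subtype.ext ((F.act_mk g rfl).symm.trans hc))
    rw [← QuotientGroup.eq_one_iff]
    exact congrArg Subtype.val h

/-- A group of elements acting freely has order dividing `|M / B| - 1`. -/
theorem card_dvd_of_free (T : Subgroup H) (hT : ∀ x ∈ T, x ≠ 1 → F.Free x) :
    Nat.card T ∣ F.B.relIndex F.M - 1 := by
  classical
  rw [← F.card_Y]
  let X := {y : F.Y // y ≠ 1}
  letI : MulAction T X :=
    { smul := fun x y => ⟨F.act x.1 y.1, by simpa using y.2⟩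
      one_smul := fun y => Subtype.ext (by
        show F.act (1 : H) y.1 = y.1
        rw [map_one, MulAut.one_apply])
      mul_smul := fun x x' y => Subtype.ext (by
        show F.act (x.1 * x'.1) y.1 = F.act x.1 (F.act x'.1 y.1)
        rw [map_mul, MulAut.mul_apply]) }
  have hstab : ∀ y : X, MulAction.stabilizer T y = ⊥ := fun y =>
    (Subgroup.eq_bot_iff_forall _).2 fun x hx => by
      by_contra hx1
      exact y.2 ((F.free_iff x.1).1 (hT x.1 x.2 fun h => hx1 (Subtype.ext h)) y.1
        (congrArg Subtype.val hx))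
  haveI := Fintype.ofFinite X
  haveI := Fintype.ofFinite (Quotient (MulAction.orbitRel T X))
  have hcard := Nat.card_congr (MulAction.selfEquivSigmaOrbitsQuotientStabilizer T X)
  rw [Nat.card_sigma, Finset.sum_congr rfl fun ω _ => by
    rw [hstab, ← Subgroup.index_eq_card, Subgroup.index_bot]] at hcard
  rw [Finset.sum_const, smul_eq_mul] at hcard
  have hX : Nat.card X = Nat.card F.Y - 1 := by
    haveI := Fintype.ofFinite F.Y
    rw [Nat.card_eq_fintype_card, Fintype.card_subtype_compl, Fintype.card_subtype_eq,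
      Nat.card_eq_fintype_card]
  rw [← hX, hcard]
  exact dvd_mul_left _ _

/-- An element centralizing `M / B` and `B` of order prime to `s` centralizes `M`. -/
theorem centralizes {g : H} {w : ℕ} (hw : w.Prime) (hws : w ≠ F.s) (hgw : g ^ w = 1)
    (hgB : g ∈ Subgroup.centralizer (F.B : Set H)) (h : F.act g = 1) :
    ∀ m ∈ F.M, g * m = m * g := by
  intro m hm
  set b := ⁅g, m⁆ with hb
  have hbB : b ∈ F.B := by
    rw [hb, ← QuotientGroup.eq_one_iff, ← QuotientGroup.mk'_apply F.B, commutatorElement_def,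
      map_mul, map_inv _ m, mul_inv_eq_one, F.act_mk g (y := ⟨_, m, hm, rfl⟩) rfl, h, MulAut.one_apply]
  have hgb : g * b = b * g := (Subgroup.mem_centralizer_iff.1 hgB b hbB).symm
  have hconj : g * m * g⁻¹ = b * m := by rw [hb, commutatorElement_def]; group
  have hiter : ∀ j : ℕ, g ^ j * m * (g ^ j)⁻¹ = b ^ j * m := by
    intro j
    induction j with
    | zero => simp
    | succ j ih =>
      calc g ^ (j + 1) * m * (g ^ (j + 1))⁻¹ = g * (g ^ j * m * (g ^ j)⁻¹) * g⁻¹ := by
            rw [pow_succ']; group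
        _ = (g * b ^ j * g⁻¹) * (g * m * g⁻¹) := by rw [ih]; group
        _ = b ^ (j + 1) * m := by
            rw [hconj, show g * b ^ j = b ^ j * g from ((show Commute g b from hgb).pow_right j).eq,
              pow_succ, mul_inv_cancel_right, mul_assoc]
  have h1 : b ^ w = 1 := by
    have := hiter w
    rw [hgw] at this
    simpa using this.symm
  have hms := F.powMem m hm
  have h2 : b ^ F.s = 1 := by
    have e1 : (g * m * g⁻¹) ^ F.s = m ^ F.s := by
      rw [conj_pow, ← Subgroup.mem_centralizer_iff.1 hgB _ hms, mul_inv_cancel_right]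
    rw [hconj, (show Commute b m from F.central hbB hm).mul_pow, mul_eq_right] at e1
    exact e1
  have hb1 : b = 1 := by
    have hcop : Nat.Coprime w F.s := (Nat.coprime_primes hw F.prime_s).2 hws
    rw [← pow_one b, ← hcop.gcd_eq_one]
    exact pow_gcd_eq_one.2 ⟨h1, h2⟩
  exact commutatorElement_eq_one_iff_mul_comm.1 hb1

theorem mem_algB_commute {m : H} (hm : m ∈ Subgroup.centralizer (F.B : Set H))
    {a : Module.End (ZMod ℓ) W} (ha : a ∈ algB ρ F.B) : Commute (ρ m) a := by
  induction ha using Algebra.adjoin_induction with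
  | mem x hx =>
    obtain ⟨b, hb, rfl⟩ := hx
    rw [commute_iff_eq, ← map_mul, ← map_mul, Subgroup.mem_centralizer_iff.1 hm b hb]
  | algebraMap r => exact (Algebra.commutes r (ρ m)).symm
  | add x y _ _ hx hy => exact hx.add_right hy
  | mul x y _ _ hx hy => exact hx.mul_right hy

/-- The numerical consequences. -/
theorem main [Nontrivial W] :
    ∃ f d : ℕ, 0 < f ∧ 2 ≤ d ∧ f * d = finrank (ZMod ℓ) W ∧ F.s ∣ ℓ ^ f - 1 ∧
      F.B.relIndex F.M ≤ d ^ 2 ∧
      (∀ g : H, ∀ w : ℕ, w.Prime → w ≠ 2 → w ≠ F.s → g ^ w = 1 → g ≠ 1 →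
        w ∣ f ∨ (∀ m ∈ F.M, g * m = m * g) ∨
          (w - 1) ^ 2 ≤ F.B.relIndex F.M ∧ ((w - 1) ^ 2 = F.B.relIndex F.M → F.Free g)) ∧
      (F.B.relIndex F.M = d ^ 2 → ∀ g : H, (∀ m ∈ F.M, g * m = m * g) → g ∈ F.B) := by
  classical
  set A := algB ρ F.B with hA
  letI cr : CommRing A := { (inferInstance : Ring A) with
    mul_comm := fun a b => Subtype.ext (algB_comm ρ F.B F.commB a.2 b.2) }
  haveI : IsDomain A := by
    haveI : Nontrivial A := ⟨⟨0, 1, fun h => by
      have := congrArg Subtype.val h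
      exact zero_ne_one (α := Module.End (ZMod ℓ) W) this⟩⟩
    haveI : NoZeroDivisors A := ⟨fun {a b} hab => by
      by_contra hcon
      push Not at hcon
      refine hcon.2 (Subtype.ext (LinearMap.ext fun w => F.noZero a.1 a.2
        (fun h => hcon.1 (Subtype.ext h)) _ ?_))
      exact LinearMap.congr_fun (congrArg Subtype.val hab) w⟩
    exact NoZeroDivisors.to_isDomain _
  haveI : Finite (Module.End (ZMod ℓ) W) := Finite.of_injective _ DFunLike.coe_injective
  haveI : Finite A := Finite.of_injective _ Subtype.val_injective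
  have hfield : IsField A := Finite.isDomain_to_isField A
  letI : Field A := hfield.toField
  haveI : Module.Finite A W := Module.Finite.of_finite
  set f := finrank (ZMod ℓ) A with hf
  set d := finrank A W with hd
  have hfpos : 0 < f := finrank_pos
  have hfd : f * d = finrank (ZMod ℓ) W := finrank_mul_finrank (ZMod ℓ) A W
  let ι : F.B →* A :=
    { toFun := fun b => ⟨ρ b, mem_algB b.2⟩
      map_one' := Subtype.ext (map_one ρ)
      map_mul' := fun a b => Subtype.ext (map_mul ρ (a : H) b) }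
  have hι : Function.Injective ι := fun a b h => Subtype.ext (F.inj (congrArg Subtype.val h))
  -- linear maps over `A`
  let lin : ∀ m : H, m ∈ Subgroup.centralizer (F.B : Set H) → Module.End A W := fun m hm =>
    { toFun := ρ m
      map_add' := map_add _
      map_smul' := fun a w => LinearMap.congr_fun (F.mem_algB_commute hm a.2).eq w }
  have hzd : ∀ z : F.Z, (z : H) ∈ F.B := fun z => z.2.1
  -- the eigenvector family
  let mY : F.Y → Module.End A W := fun y => lin (y : H ⧸ F.B).out (F.le_cent (F.out_mem y))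
  have hbij : ∀ m : H, Function.Bijective (ρ m) := ρ.apply_bijective
  have hmY : ∀ y, mY y ≠ 0 := fun y h => by
    obtain ⟨w, hw⟩ := exists_ne (0 : W)
    exact hw ((hbij _).injective ((LinearMap.congr_fun h w).trans (map_zero _).symm))
  let L : F.Y → (Module.End A W →ₗ[A] Module.End A W) := fun x =>
    (LinearMap.mulLeft A (mY x)).comp (LinearMap.mulRight A
      (lin (x : H ⧸ F.B).out⁻¹ ((Subgroup.centralizer _).inv_mem (F.le_cent (F.out_mem x)))))
  let χ : F.Y → F.Y → A := fun y x => ι ⟨(F.pairing x y : H), hzd _⟩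
  have hL : ∀ x y, L x (mY y) = χ y x • mY y := by
    intro x y
    refine LinearMap.ext fun w => ?_
    show ρ (x : H ⧸ F.B).out (ρ (y : H ⧸ F.B).out (ρ (x : H ⧸ F.B).out⁻¹ w)) =
      ρ ((F.pairing x y : F.Z) : H) (ρ (y : H ⧸ F.B).out w)
    rw [F.pairing_apply (F.out_mem x) (F.out_mem y) (QuotientGroup.out_eq' _)
      (QuotientGroup.out_eq' _)]
    rw [← Module.End.mul_apply, ← Module.End.mul_apply, ← Module.End.mul_apply, ← map_mul, ← map_mul,
      ← map_mul]
    refine congrArg (fun h => ρ h w) ?_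
    rw [commutatorElement_def]
    group
  have hχ : Function.Injective χ := by
    intro y1 y2 h
    rw [← mul_inv_eq_one]
    refine F.pairing_nondeg fun x => ?_
    have h1 : F.pairing x y1 = F.pairing x y2 :=
      Subtype.ext (congrArg (fun b : F.B => (b : H)) (hι (congrFun h x)))
    have hanti : ∀ u v : F.Y, F.pairing u v = (F.pairing v u)⁻¹ := fun u v => Subtype.ext (by
      rw [InvMemClass.coe_inv, F.pairing_apply (F.out_mem u) (F.out_mem v) (QuotientGroup.out_eq' _)
        (QuotientGroup.out_eq' _), F.pairing_apply (F.out_mem v) (F.out_mem u)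
        (QuotientGroup.out_eq' _) (QuotientGroup.out_eq' _), commutatorElement_inv])
    rw [hanti, map_mul, map_inv, h1, mul_inv_cancel, inv_one]
  have hli := linearIndependent_eigen (A := A) mY hmY L χ hL hχ
  haveI := Fintype.ofFinite F.Y
  have hdd : finrank A (Module.End A W) = d ^ 2 := by
    rw [finrank_linearMap, ← hd, sq]
  have hle : F.B.relIndex F.M ≤ d ^ 2 := by
    rw [← F.card_Y, Nat.card_eq_fintype_card, ← hdd]
    exact hli.fintype_card_le_finrank
  have hs2 := F.sq_le_card
  have hd2 : 2 ≤ d := by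
    by_contra h
    have h1 : d ^ 2 ≤ 1 := by rw [sq]; exact Nat.mul_le_mul (by omega : d ≤ 1) (by omega : d ≤ 1)
    have h2 : 2 ^ 2 ≤ F.s ^ 2 := Nat.pow_le_pow_left F.prime_s.two_le 2
    omega
  -- `Z` has order `s`
  have hZ : Nat.card F.Z = F.s := by
    let ιZ : F.Z →* A := ι.comp (Subgroup.inclusion fun z hz => hz.1)
    haveI : IsCyclic F.Z := isCyclic_of_injective_ringHom ιZ
      (hι.comp (Subgroup.inclusion_injective fun z (hz : z ∈ F.Z) => hz.1))
    have hex : Monoid.exponent F.Z ∣ F.s := Monoid.exponent_dvd_of_forall_pow_eq_one fun z =>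
      Subtype.ext z.2.2
    rw [IsCyclic.exponent_eq_card] at hex
    refine ((Nat.dvd_prime F.prime_s).1 hex).resolve_left fun h1 => ?_
    haveI : Subsingleton F.Z := (Nat.card_eq_one_iff_unique.1 h1).1
    have hall : ∀ y : F.Y, y = 1 := fun y => F.pairing_nondeg fun x => Subsingleton.elim _ _
    haveI : Subsingleton F.Y := ⟨fun a b => by rw [hall a, hall b]⟩
    have h2 : Nat.card F.Y = 1 := Nat.card_unique
    rw [F.card_Y] at h2
    have h3 : 2 ^ 2 ≤ F.s ^ 2 := Nat.pow_le_pow_left F.prime_s.two_le 2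
    omega
  have hsdvd : F.s ∣ ℓ ^ f - 1 := by
    haveI := Fintype.ofFinite A
    obtain ⟨z, hz⟩ := exists_prime_orderOf_dvd_card' (hp := ⟨F.prime_s⟩) F.s (dvd_of_eq hZ.symm : F.s ∣ Nat.card F.Z)
    let ιU : F.B →* Aˣ := ι.toHomUnits
    have hinjU : Function.Injective ιU := fun a b h => hι (congrArg Units.val h)
    have hcardA : Nat.card A = ℓ ^ f := by
      rw [Module.natCard_eq_pow_finrank (K := ZMod ℓ), Nat.card_zmod]
    have hdvd : Nat.card (F.Z) ∣ Nat.card Aˣ :=
      Subgroup.card_dvd_of_injective (ιU.comp (Subgroup.inclusion fun z hz => hz.1))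
        (hinjU.comp (Subgroup.inclusion_injective fun z (hz : z ∈ F.Z) => hz.1))
    rwa [hZ, Nat.card_units, hcardA] at hdvd
  refine ⟨f, d, hfpos, hd2, hfd, hsdvd, hle, ?_, ?_⟩
  · intro g w hw hw2 hws hgw hg1
    haveI : Fact w.Prime := ⟨hw⟩
    by_cases hcomm : ∀ a ∈ algB ρ F.B, ρ g * a = a * ρ g
    · right
      have hgB : g ∈ Subgroup.centralizer (F.B : Set H) := Subgroup.mem_centralizer_iff.2 fun b hb =>
        F.inj (by rw [map_mul, map_mul]; exact (hcomm _ (mem_algB hb)).symm)
      by_cases hact : F.act g = 1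
      · exact Or.inl (F.centralizes hw hws hgw hgB hact)
      right
      have hinv : ∀ x y, F.pairing (F.act g x) (F.act g y) = F.pairing x y := fun x y => Subtype.ext (by
        have hx : QuotientGroup.mk' F.B (x : H ⧸ F.B).out = x := QuotientGroup.out_eq' _
        have hy : QuotientGroup.mk' F.B (y : H ⧸ F.B).out = y := QuotientGroup.out_eq' _
        rw [F.pairing_apply (F.normM.conj_mem _ (F.out_mem x) g) (F.normM.conj_mem _ (F.out_mem y) g)
          (F.act_mk g hx) (F.act_mk g hy), F.pairing_apply (F.out_mem x) (F.out_mem y) hx hy,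
          ← conjugate_commutatorElement,
          ← Subgroup.mem_centralizer_iff.1 hgB _ (F.comm_mem _ (F.out_mem x) _ (F.out_mem y)),
          mul_inv_cancel_right])
      obtain ⟨h1, h2⟩ := bound (s := F.s) F.expY hZ F.pairing (fun x hx => F.pairing_nondeg hx)
        (F.act g) hinv hw hw2 hws (by rw [← map_pow, hgw, map_one]) hact
      rw [F.card_Y] at h1 h2
      exact ⟨h1, fun he => (F.free_iff g).2 (h2 he)⟩
    · left
      have hgi : ∀ a ∈ algB ρ F.B, ρ g * a * ρ g⁻¹ ∈ algB ρ F.B := fun a ha => algB_conj ρ F.B g ha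
      let σ : ∀ h : H, A →ₐ[ZMod ℓ] A := fun h =>
        { toFun := fun a => ⟨ρ h * a.1 * ρ h⁻¹, algB_conj ρ F.B h a.2⟩
          map_one' := Subtype.ext (by
            show ρ h * 1 * ρ h⁻¹ = 1
            rw [mul_one, ← map_mul, mul_inv_cancel, map_one])
          map_mul' := fun a b => Subtype.ext (by
            show ρ h * (a.1 * b.1) * ρ h⁻¹ = ρ h * a.1 * ρ h⁻¹ * (ρ h * b.1 * ρ h⁻¹)
            simp only [mul_assoc]
            rw [← mul_assoc (ρ h⁻¹) (ρ h), rho_inv_cancel, one_mul])
          map_zero' := Subtype.ext (by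
            show ρ h * 0 * ρ h⁻¹ = 0
            rw [mul_zero, zero_mul])
          map_add' := fun a b => Subtype.ext (by
            show ρ h * (a.1 + b.1) * ρ h⁻¹ = ρ h * a.1 * ρ h⁻¹ + ρ h * b.1 * ρ h⁻¹
            rw [mul_add, add_mul])
          commutes' := fun r => Subtype.ext (by
            show ρ h * algebraMap (ZMod ℓ) (Module.End (ZMod ℓ) W) r * ρ h⁻¹ = algebraMap _ _ r
            rw [← Algebra.commutes, mul_assoc, ← map_mul, mul_inv_cancel, map_one, mul_one]) }
      have hσpow : ∀ j : ℕ, ∀ a, ((σ g) ^ j) a = σ (g ^ j) a := by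
        intro j
        induction j with
        | zero =>
          intro a
          refine Subtype.ext ?_
          show a.1 = ρ (g ^ 0) * a.1 * ρ (g ^ 0)⁻¹
          simp
        | succ j ih =>
          intro a
          rw [pow_succ', AlgHom.mul_apply, ih]
          refine Subtype.ext ?_
          show ρ g * (ρ (g ^ j) * a.1 * ρ (g ^ j)⁻¹) * ρ g⁻¹ = ρ (g ^ (j + 1)) * a.1 * ρ (g ^ (j + 1))⁻¹
          rw [pow_succ' g j, map_mul, mul_inv_rev, map_mul]
          simp only [mul_assoc]
      have hσw : (σ g) ^ w = 1 := AlgHom.ext fun a => Subtype.ext (by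
        rw [hσpow, hgw]
        show ρ (1 : H) * a.1 * ρ (1 : H)⁻¹ = a.1
        simp)
      have hσ1 : σ g ≠ 1 := fun h => hcomm fun a ha => by
        have h1 : ρ g * a * ρ g⁻¹ = a := congrArg Subtype.val (AlgHom.congr_fun h ⟨a, ha⟩)
        conv_rhs => rw [← h1]
        rw [mul_assoc, rho_inv_cancel, mul_one]
      have h := orderOf_eq_prime hσw hσ1
      let e := (algEquivEquivAlgHom (ZMod ℓ) A).symm (σ g)
      have he : orderOf e = w := by rw [← h]; exact MulEquiv.orderOf_eq (algEquivEquivAlgHom (ZMod ℓ) A).symm (σ g)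
      have hcardAut : Nat.card (A ≃ₐ[ZMod ℓ] A) = f := IsGalois.card_aut_eq_finrank (ZMod ℓ) A
      rw [← he, ← hcardAut]
      exact orderOf_dvd_natCard e
  · intro heq g hg
    have hgB : g ∈ Subgroup.centralizer (F.B : Set H) :=
      Subgroup.mem_centralizer_iff.2 fun b hb => (hg b (F.le hb)).symm
    set G0 := lin g hgB with hG0
    have hspan := hli.span_eq_top_of_card_eq_finrank (by
      rw [hdd, ← Nat.card_eq_fintype_card, F.card_Y, heq])
    have hall : ∀ T : Module.End A W, G0 * T = T * G0 := by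
      intro T
      have hT : T ∈ Submodule.span A (Set.range mY) := hspan ▸ Submodule.mem_top
      induction hT using Submodule.span_induction with
      | mem z hz =>
        obtain ⟨y, rfl⟩ := hz
        refine LinearMap.ext fun w => ?_
        show ρ g (ρ (y : H ⧸ F.B).out w) = ρ (y : H ⧸ F.B).out (ρ g w)
        rw [← Module.End.mul_apply, ← Module.End.mul_apply, ← map_mul, ← map_mul, hg _ (F.out_mem y)]
      | zero => rw [mul_zero, zero_mul]
      | add y z _ _ hy hz => rw [mul_add, add_mul, hy, hz]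
      | smul c z _ hz => rw [mul_smul_comm, smul_mul_assoc, hz]
    obtain ⟨v, hv⟩ := exists_ne (0 : W)
    obtain ⟨φ, hφ⟩ := Module.Projective.exists_dual_ne_zero A hv
    have hscal : ρ g ∈ algB ρ F.B := by
      have hall' : ∀ u : W, φ v • G0 u = φ (G0 v) • u := fun u => by
        have := LinearMap.congr_fun (hall (φ.smulRight u)) v
        simp only [Module.End.mul_apply, LinearMap.smulRight_apply, map_smul] at this
        exact this
      have hge : ρ g = ((φ v)⁻¹ * φ (G0 v) : A).1 := LinearMap.ext fun u => by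
        have hu : G0 u = ((φ v)⁻¹ * φ (G0 v)) • u := by
          rw [mul_smul, ← hall' u, inv_smul_smul₀ hφ]
        exact hu
      rw [hge]; exact Subtype.coe_prop _
    let D : Subgroup H :=
      { carrier := {x | ρ x ∈ algB ρ F.B}
        one_mem' := by
          show ρ 1 ∈ algB ρ F.B
          rw [map_one]; exact one_mem _
        mul_mem' := fun {x y} hx hy => by
          show ρ (x * y) ∈ algB ρ F.B
          rw [map_mul]; exact mul_mem hx hy
        inv_mem' := fun {x} hx => by
          show ρ x⁻¹ ∈ algB ρ F.B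
          have hxo : x⁻¹ = x ^ (orderOf x - 1) := inv_eq_of_mul_eq_one_left (by
            rw [← pow_succ, Nat.sub_add_cancel (orderOf_pos x), pow_orderOf_eq_one])
          rw [hxo, map_pow]; exact pow_mem hx _ }
    have hDn : D.Normal := ⟨fun x hx h => by
      show ρ (h * x * h⁻¹) ∈ algB ρ F.B
      rw [map_mul, map_mul]; exact algB_conj ρ F.B h hx⟩
    have hDc : IsMulCommutative D := ⟨⟨fun x y => Subtype.ext (F.inj (by
      rw [Subgroup.coe_mul, Subgroup.coe_mul, map_mul, map_mul]
      exact algB_comm ρ F.B F.commB x.2 y.2))⟩⟩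
    have hD := F.maximal D hDn hDc fun b hb => mem_algB hb
    rw [← hD]
    exact hscal

end Frame

end Cfsg.Agent.BlocksChars.Palfy
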