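import Cfsg.Agent.BlocksChars.Palfy.RCase
import Cfsg.Agent.Lib.Hall.MinimalNormal
import Cfsg.Agent.Lib.Cores.Nilpotent

/-!
# The degree graph of a solvable group has no three pairwise non-adjacent vertices
-/

set_option autoImplicit false
set_option linter.style.haveILetI false

namespace Cfsg.Agent.BlocksChars.Palfy

open Cfsg.Agent.Characters Cfsg.Agent.CharTheory Cfsg.Agent.BlocksChars
open scoped IsMulCommutative commutatorElement

universe u

variable {G : Type u} [Group G] [Finite G] [Group.IsSolvable G]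

set_option maxHeartbeats 1000000 in
/-- The coprime case. -/
theorem coprime_case {p q r ℓ : ℕ} [hp : Fact p.Prime] [hq : Fact q.Prime] [hr : Fact r.Prime]
    [hl : Fact ℓ.Prime] (hℓr : ℓ ≠ r) (hpr : p ≠ r) (hqr : q ≠ r) (hpq' : p ≠ q)
    (hnp : NoEdge G r p) (hnq : NoEdge G r q) (hpq : NoEdge G p q)
    (hdp : ∃ d ∈ Cfsg.charDegrees G, p ∣ d) (hdq : ∃ d ∈ Cfsg.charDegrees G, q ∣ d)
    (hdr : ∃ d ∈ Cfsg.charDegrees G, r ∣ d)
    (V : Subgroup G) [V.Normal] [IsMulCommutative V] (hV : IsPGroup ℓ V)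
    (hexp : ∀ a ∈ V, a ^ ℓ = 1) (hVne : V ≠ ⊥)
    (hmin : ∀ K : Subgroup G, K.Normal → K ≤ V → K = ⊥ ∨ K = V) (R : Sylow r G)
    (hRn : ((R : Subgroup G) ⊔ V).Normal)
    (hRab : ∀ a ∈ (R : Subgroup G), ∀ b ∈ (R : Subgroup G), a⁻¹ * b⁻¹ * (a * b) ∈ V) : False := by
  haveI := hRn
  have hRV : (R : Subgroup G) ⊓ V = ⊥ := by
    obtain ⟨m, hm⟩ := R.2.exists_card_eq
    obtain ⟨k, hk⟩ := hV.exists_card_eq
    refine Subgroup.inf_eq_bot_of_coprime ?_
    rw [hm, hk]
    exact Nat.Coprime.pow _ _ ((Nat.coprime_primes hr.out hl.out).2 (Ne.symm hℓr))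
  have hRc : IsMulCommutative (R : Subgroup G) := ⟨⟨fun a b => by
    have h : (a : G)⁻¹ * (b : G)⁻¹ * (a * b) ∈ (R : Subgroup G) ⊓ V :=
      ⟨(R : Subgroup G).mul_mem ((R : Subgroup G).mul_mem (Subgroup.inv_mem _ a.2)
        (Subgroup.inv_mem _ b.2)) ((R : Subgroup G).mul_mem a.2 b.2), hRab a a.2 b b.2⟩
    rw [hRV, Subgroup.mem_bot, ← mul_inv_rev, inv_mul_eq_one] at h
    exact Subtype.ext h.symm⟩⟩
  have hRnn : ¬ (R : Subgroup G).Normal := fun h => by
    haveI := h
    obtain ⟨d, hd, hrd⟩ := hdr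
    exact not_divides_of_normal_abelian (R : Subgroup G) hRc R.not_dvd_index d hd hrd
  set H := Subgroup.normalizer ((R : Subgroup G) : Set G) with hH
  have hRH : (R : Subgroup G) ≤ H := Subgroup.le_normalizer
  have hVH : V ⊔ H = ⊤ := by
    have h := Sylow.normalizer_sup_eq_top' R (N := (R : Subgroup G) ⊔ V) le_sup_left
    rw [← top_le_iff, ← h]
    refine sup_le le_sup_right (sup_le (hRH.trans le_sup_right) le_sup_left)
  have hdisj : V ⊓ H = ⊥ := by
    have hn : (V ⊓ H).Normal := by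
      refine ⟨fun a ha g => ?_⟩
      have hg : g ∈ (V : Subgroup G) ⊔ H := hVH ▸ Subgroup.mem_top g
      rw [← SetLike.mem_coe, Subgroup.normal_mul] at hg
      obtain ⟨v, hv, h, hh, rfl⟩ := hg
      have h1 : h * a * h⁻¹ ∈ V ⊓ H :=
        ⟨(inferInstance : V.Normal).conj_mem a ha.1 h,
          H.mul_mem (H.mul_mem hh ha.2) (H.inv_mem hh)⟩
      have h2 : v * (h * a * h⁻¹) = h * a * h⁻¹ * v :=
        congrArg Subtype.val (‹IsMulCommutative V›.is_comm.comm (⟨v, hv⟩ : V) ⟨_, h1.1⟩)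
      rw [mul_inv_rev, show v * h * a * (h⁻¹ * v⁻¹) = v * (h * a * h⁻¹) * v⁻¹ by group, h2,
        mul_inv_cancel_right]
      exact h1
    refine (hmin _ hn inf_le_left).resolve_right fun he => hRnn ?_
    rw [inf_eq_left] at he
    rw [sup_eq_right.2 he, hH, Subgroup.normalizer_eq_top_iff] at hVH
    exact hVH
  have hc : Subgroup.IsComplement' V H :=
    Subgroup.isComplement'_of_disjoint_and_mul_eq_univ (disjoint_iff.2 hdisj) (by
      rw [← Subgroup.normal_mul, hVH, Subgroup.coe_top])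
  have hconj : ∀ g : G, ∃ h ∈ H, ∀ v ∈ V, g * v * g⁻¹ = h * v * h⁻¹ := fun g => by
    obtain ⟨⟨⟨x, hx⟩, ⟨k, hk⟩⟩, rfl⟩ := hc.surjective g
    refine ⟨k, hk, fun v hv => ?_⟩
    have h5 : x * (k * v * k⁻¹) = k * v * k⁻¹ * x :=
      congrArg Subtype.val (‹IsMulCommutative V›.is_comm.comm (⟨x, hx⟩ : V)
        ⟨_, (inferInstance : V.Normal).conj_mem v hv k⟩)
    show x * k * v * (x * k)⁻¹ = k * v * k⁻¹
    rw [mul_inv_rev, show x * k * v * (k⁻¹ * x⁻¹) = x * (k * v * k⁻¹) * x⁻¹ by group, h5,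
      mul_inv_cancel_right]
  haveI := finite_dual V
  haveI : Nontrivial (V →* ℂˣ) := by
    refine (Finite.one_lt_card_iff_nontrivial).1 ?_
    rw [card_dual]
    exact (Subgroup.one_lt_card_iff_ne_bot V).2 hVne
  let R' : Sylow r H := R.subtype hRH
  haveI hR'n : (R' : Subgroup H).Normal := Subgroup.normal_in_normalizer
  -- every non-trivial character is moved by the normal Sylow subgroup
  have hmove : ∀ l : V →* ℂˣ, l ≠ 1 →
      r ∣ (stabSub (X := V →* ℂˣ) ((dualAct V).comp H.subtype) l).index := by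
    intro l hl
    by_contra hd
    obtain ⟨Q, hQ⟩ := exists_sylow_le _ hd
    haveI := Sylow.unique_of_normal R' hR'n
    rw [Subsingleton.elim Q R'] at hQ
    let U : Subgroup (V →* ℂˣ) := fixSub (X := V →* ℂˣ) ((dualAct V).comp H.subtype) R'
    rcases dual_irreducible V hmin H hconj U (fun h u hu k hk => by
      have h6 := hu (h⁻¹ * k * h) (by
        simpa using hR'n.conj_mem k hk h⁻¹)
      calc dualAct V ((k : H) : G) (dualAct V ((h : H) : G) u)
          = dualAct V ((h : H) : G) (dualAct V (((h⁻¹ * k * h : H)) : G) u) := by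
            rw [← MulAut.mul_apply, ← MulAut.mul_apply, ← map_mul, ← map_mul]
            exact congrArg (fun z => dualAct V z u) (by simp [mul_assoc])
        _ = dualAct V ((h : H) : G) u := congrArg _ h6) with h | h
    · apply hl
      have hlU : l ∈ U := fun k hk => hQ hk
      rw [h] at hlU
      exact hlU
    · have hcent : ∀ x ∈ (R : Subgroup G), ∀ v ∈ V, v * x = x * v := fun x hx v hv =>
        Subgroup.mem_centralizer_iff.1 (centralizes_of_dual V (g := x) fun m => by
          have hm : m ∈ U := h ▸ Subgroup.mem_top m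
          exact hm ⟨x, hRH hx⟩ hx) v hv
      have hVle : V ≤ H := fun v hv => Subgroup.mem_normalizer_iff.2 fun y => by
        constructor
        · intro hy
          rwa [hcent y hy v hv, mul_inv_cancel_right]
        · intro hy
          have h7 := hcent _ hy v hv
          rw [inv_mul_cancel_right] at h7
          rwa [mul_left_cancel h7] at hy
      exact hVne (eq_bot_iff.2 fun v hv => hdisj ▸ ⟨hv, hVle hv⟩)
  have hstab : ∀ {t : ℕ}, NoEdge G r t → ∀ l : V →* ℂˣ, l ≠ 1 →
      ¬ t ∣ (stabSub (X := V →* ℂˣ) ((dualAct V).comp H.subtype) l).index ∧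
        ItoPSolvable.PPrimeDegrees (stabSub (X := V →* ℂˣ) ((dualAct V).comp H.subtype) l) t :=
    fun hne l hl =>
      ⟨fun hd => hne _ (linear_degrees hc l (fun h => Iff.rfl) ⟨⟨_, isIrrCharacter_linear 1⟩, rfl⟩)
          (dvd_mul_of_dvd_left (hmove l hl) _) (dvd_mul_of_dvd_left hd _),
        fun χ hd => hne _ (linear_degrees hc l (fun h => Iff.rfl) ⟨χ, rfl⟩)
          (dvd_mul_of_dvd_left (hmove l hl) _) (dvd_mul_of_dvd_right hd _)⟩
  have hnn : ∀ (t : ℕ) [ht : Fact t.Prime], NoEdge G r t →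
      (∃ d ∈ Cfsg.charDegrees G, t ∣ d) → ∀ P : Sylow t H, ¬ (P : Subgroup H).Normal := by
    intro t ht hne hdiv P hPn
    haveI := hPn
    have hcov : Cover (X := V →* ℂˣ) t ((dualAct V).comp H.subtype) := cover_of_stab (hstab hne)
    have hPc : IsMulCommutative P :=
      abelian_of_stab (X := V →* ℂˣ) (φ := (dualAct V).comp H.subtype) (hstab hne) P
    set M : Subgroup G := (P : Subgroup H).map H.subtype with hM
    have hMV : ∀ x ∈ M, ∀ v ∈ V, v * x = x * v := by
      rintro _ ⟨x, hx, rfl⟩ v hv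
      exact Subgroup.mem_centralizer_iff.1 (centralizes_of_dual V (g := (x : G)) fun m =>
        DFunLike.congr_fun (hcov.normal_pGroup_trivial P.2 hx) m) v hv
    haveI : (V ⊔ M).Normal := by
      refine ⟨fun a ha g => ?_⟩
      rw [← SetLike.mem_coe, Subgroup.normal_mul] at ha
      obtain ⟨w, hw, _, ⟨m, hm, rfl⟩, rfl⟩ := ha
      obtain ⟨⟨⟨x, hx⟩, ⟨k, hk⟩⟩, rfl⟩ := hc.surjective g
      have hxs : x ∈ V ⊔ M := le_sup_left (b := M) hx
      have hw' : k * w * k⁻¹ ∈ V ⊔ M :=
        le_sup_left (b := M) ((inferInstance : V.Normal).conj_mem w hw k)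
      have hm' : k * (m : G) * k⁻¹ ∈ V ⊔ M := le_sup_right (a := V)
        ⟨⟨k, hk⟩ * m * ⟨k, hk⟩⁻¹, hPn.conj_mem m hm _, rfl⟩
      show x * k * (w * (m : G)) * (x * k)⁻¹ ∈ V ⊔ M
      rw [show x * k * (w * (m : G)) * (x * k)⁻¹ =
        x * (k * w * k⁻¹ * (k * (m : G) * k⁻¹)) * x⁻¹ by group]
      exact mul_mem (mul_mem hxs (mul_mem hw' hm')) (inv_mem hxs)
    have hab : IsMulCommutative (V ⊔ M : Subgroup G) := by
      have hMM : ∀ a ∈ M, ∀ b ∈ M, a * b = b * a := by
        rintro _ ⟨a, ha, rfl⟩ _ ⟨b, hb, rfl⟩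
        exact congrArg (fun z : P => ((z.1 : H) : G)) (hPc.is_comm.comm ⟨a, ha⟩ ⟨b, hb⟩)
      have hVM : (V ⊔ M : Subgroup G) = Subgroup.closure ((V : Set G) ∪ M) :=
        (Subgroup.sup_eq_closure V M)
      rw [hVM]
      refine Subgroup.isMulCommutative_closure fun a ha b hb => ?_
      rcases ha with ha | ha <;> rcases hb with hb | hb
      · exact congrArg Subtype.val (‹IsMulCommutative V›.is_comm.comm (⟨a, ha⟩ : V) ⟨b, hb⟩)
      · exact hMV b hb a ha
      · exact (hMV a ha b hb).symm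
      · exact hMM a ha b hb
    obtain ⟨d, hd, htd⟩ := hdiv
    refine not_divides_of_normal_abelian (V ⊔ M) hab ?_ d hd htd
    let f : H →* G ⧸ (V ⊔ M) := (QuotientGroup.mk' (V ⊔ M)).comp H.subtype
    have hsur : Function.Surjective f := fun z => by
      obtain ⟨g, rfl⟩ := QuotientGroup.mk'_surjective (V ⊔ M) z
      obtain ⟨⟨⟨v, hv⟩, ⟨k, hk⟩⟩, rfl⟩ := hc.surjective g
      refine ⟨⟨k, hk⟩, ?_⟩
      show QuotientGroup.mk' (V ⊔ M) k = QuotientGroup.mk' (V ⊔ M) (v * k)
      rw [map_mul, show QuotientGroup.mk' (V ⊔ M) v = 1 from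
        (QuotientGroup.eq_one_iff v).2 (le_sup_left (b := M) hv), one_mul]
    have hidx : f.ker.index = (V ⊔ M).index := by
      rw [Subgroup.index_ker, MonoidHom.range_eq_top.2 hsur, Subgroup.card_top,
        Subgroup.index_eq_card]
    rw [← hidx]
    exact fun h => P.not_dvd_index (h.trans (Subgroup.index_dvd_of_le fun x hx =>
      (QuotientGroup.eq_one_iff _).2 (le_sup_right (a := V) ⟨x, hx, rfl⟩)))
  set φ : H →* MulAut (V →* ℂˣ) := (dualAct V).comp H.subtype with hφ
  have hcp : Cover (X := V →* ℂˣ) p φ := cover_of_stab (hstab hnp)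
  have hcq : Cover (X := V →* ℂˣ) q φ := cover_of_stab (hstab hnq)
  haveI : Finite φ.range := Finite.of_surjective _ φ.rangeRestrict_surjective
  haveI : Group.IsSolvable φ.range := Group.isSolvable_of_surjective φ.rangeRestrict_surjective
  refine module_false (X := V →* ℂˣ) (ℓ := ℓ) (fun l => dual_pow hexp l) φ.range.subtype
    Subtype.val_injective (fun U hU => ?_) hpq' (cover_range hcp) (cover_range hcq)
    (fun Q => not_normal_range hcp (hnn p hnp hdp (Classical.arbitrary _)) Q)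
    (fun Q => not_normal_range hcq (hnn q hnq hdq (Classical.arbitrary _)) Q) fun d hd h => ?_
  · exact dual_irreducible V hmin H hconj U fun h l hl => hU ⟨φ h, h, rfl⟩ l hl
  · exact hpq d (charDegrees_complement_subset hc
      (SL2Degrees.charDegrees_subset_of_surjective φ.rangeRestrict φ.rangeRestrict_surjective hd))
      (dvd_of_mul_right_dvd h) (dvd_of_mul_left_dvd h)

/-- One prime is lost on a quotient by a minimal normal subgroup. -/
theorem reduced {p q r : ℕ} [hp : Fact p.Prime] [hq : Fact q.Prime] [hr : Fact r.Prime]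
    (hpr : p ≠ r) (hqr : q ≠ r) (hpq' : p ≠ q)
    (hnp : NoEdge G r p) (hnq : NoEdge G r q) (hpq : NoEdge G p q)
    (hdp : ∃ d ∈ Cfsg.charDegrees G, p ∣ d) (hdq : ∃ d ∈ Cfsg.charDegrees G, q ∣ d)
    (hdr : ∃ d ∈ Cfsg.charDegrees G, r ∣ d)
    (V : Subgroup G) [V.Normal] (hVne : V ≠ ⊥)
    (hmin : ∀ K : Subgroup G, K.Normal → K ≤ V → K = ⊥ ∨ K = V)
    (hQ : ∀ d ∈ Cfsg.charDegrees (G ⧸ V), ¬ r ∣ d) : False := by
  obtain ⟨ℓ, hl, -, hV, hVc, hexp⟩ := Hall.minimal_normal_isElementaryAbelian hVne hmin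
  haveI : Fact ℓ.Prime := ⟨hl⟩
  haveI := hVc
  obtain ⟨R⟩ : Nonempty (Sylow r G) := inferInstance
  obtain ⟨hn, hc⟩ := (ItoPSolvable.normal_abelian_iff
    (Cfsg.Agent.PLocal.SolvableSeparable.isPSolvable_of_isSolvable r _)
    (R.mapSurjective (QuotientGroup.mk'_surjective V))).2 fun χ => hQ _ ⟨χ, rfl⟩
  have hRn : ((R : Subgroup G) ⊔ V).Normal := by
    have h := hn.comap (QuotientGroup.mk' V)
    rwa [Sylow.coe_mapSurjective, Subgroup.comap_map_eq, QuotientGroup.ker_mk'] at h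
  have hRab : ∀ a ∈ (R : Subgroup G), ∀ b ∈ (R : Subgroup G), a⁻¹ * b⁻¹ * (a * b) ∈ V := by
    intro a ha b hb
    have h := congrArg Subtype.val (hc.is_comm.comm (⟨(a : G ⧸ V), ⟨a, ha, rfl⟩⟩ :
      (R.mapSurjective (QuotientGroup.mk'_surjective V) : Subgroup (G ⧸ V)))
      ⟨(b : G ⧸ V), ⟨b, hb, rfl⟩⟩)
    have h' : ((b * a : G) : G ⧸ V) = ((a * b : G) : G ⧸ V) := h.symm
    rw [← mul_inv_rev]
    exact QuotientGroup.eq.1 h'
  rcases ne_or_eq ℓ r with hlr | hlr
  · exact coprime_case hlr hpr hqr hpq' hnp hnq hpq hdp hdq hdr V hV hexp hVne hmin R hRn hRab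
  subst hlr
  have hVR : V ≤ (R : Subgroup G) := le_sylow_of_normal R hV
  rw [sup_eq_left.2 hVR] at hRn
  haveI := hRn
  -- the derived subgroup of the Sylow subgroup
  have hle : commutator (R : Subgroup G) ≤ V.subgroupOf (R : Subgroup G) := by
    rw [commutator_def, Subgroup.commutator_le]
    intro a _ b _
    show (a : G) * b * (a : G)⁻¹ * (b : G)⁻¹ ∈ V
    have h := hRab (a : G)⁻¹ ((R : Subgroup G).inv_mem a.2) (b : G)⁻¹ ((R : Subgroup G).inv_mem b.2)
    rwa [inv_inv, inv_inv, ← mul_assoc] at h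
  have hder : V.subgroupOf (R : Subgroup G) = commutator (R : Subgroup G) := by
    set D : Subgroup G := (commutator (R : Subgroup G)).map (R : Subgroup G).subtype with hD
    have hDn : D.Normal := inferInstance
    have hDle : D ≤ V := by
      rintro _ ⟨x, hx, rfl⟩
      exact hle hx
    rcases hmin D hDn hDle with h | h
    · exfalso
      obtain ⟨d, hd, hrd⟩ := hdr
      refine not_divides_of_normal_abelian (R : Subgroup G) ⟨⟨fun a b => ?_⟩⟩ R.not_dvd_index d hd
        hrd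
      have h2 : ⁅a, b⁆ ∈ commutator (R : Subgroup G) :=
        Subgroup.commutator_mem_commutator (Subgroup.mem_top a) (Subgroup.mem_top b)
      rw [hD, Subgroup.map_eq_bot_iff_of_injective _ (R : Subgroup G).subtype_injective] at h
      rw [h, Subgroup.mem_bot, commutatorElement_eq_one_iff_mul_comm] at h2
      exact h2
    · rw [← h, hD, Subgroup.subgroupOf, Subgroup.comap_map_eq_self_of_injective
        (R : Subgroup G).subtype_injective]
  have hcen : ∀ v ∈ V, ∀ x ∈ (R : Subgroup G), x * v = v * x := by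
    haveI : Group.IsNilpotent (R : Subgroup G) := R.2.isNilpotent
    have hne : V.subgroupOf (R : Subgroup G) ≠ ⊥ := fun h => hVne (by
      rw [Subgroup.subgroupOf_eq_bot, disjoint_iff, inf_eq_left.2 hVR] at h
      exact h)
    have hmeet := Cfsg.Agent.Cores.inf_center_ne_bot hne
    set Z : Subgroup G := (V.subgroupOf (R : Subgroup G) ⊓
      Subgroup.center (R : Subgroup G)).map (R : Subgroup G).subtype with hZ
    have hZn : Z.Normal := by
      rw [hZ, hder]
      infer_instance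
    rcases hmin Z hZn (by rintro _ ⟨x, hx, rfl⟩; exact hx.1) with h | h
    · exact absurd ((Subgroup.map_eq_bot_iff_of_injective _
        (R : Subgroup G).subtype_injective).1 h) hmeet
    · intro v hv x hx
      rw [← h] at hv
      obtain ⟨y, hy, rfl⟩ := hv
      exact congrArg Subtype.val (Subgroup.mem_center_iff.1 hy.2 ⟨x, hx⟩)
  obtain ⟨H, hH⟩ := Subgroup.exists_right_complement'_of_coprime (N := (R : Subgroup G))
    R.card_coprime_index
  have D : RData ℓ (R : Subgroup G) V H :=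
    ⟨hVR, hder, hcen, R.2, hexp, hVne, hH, hH.symm.index_eq_card ▸ R.not_dvd_index⟩
  exact r_case D hpq' hpr hqr hnp hnq hpq hdp hdq hmin

/-- Three pairwise non-adjacent primes are impossible. -/
theorem no_triangle : ∀ (n : ℕ) (G : Type u) [Group G] [Finite G] [Group.IsSolvable G],
    Nat.card G = n → ∀ {p q r : ℕ}, p.Prime → q.Prime → r.Prime → p ≠ q → q ≠ r → p ≠ r →
    (∃ d ∈ Cfsg.charDegrees G, p ∣ d) → (∃ d ∈ Cfsg.charDegrees G, q ∣ d) →
    (∃ d ∈ Cfsg.charDegrees G, r ∣ d) → NoEdge G p q → NoEdge G q r → NoEdge G p r → False := by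
  intro n
  induction n using Nat.strong_induction_on with
  | _ n ih =>
    intro G _ _ _ hn p q r hp hq hr hpq hqr hpr hdp hdq hdr npq nqr npr
    haveI : Fact p.Prime := ⟨hp⟩
    haveI : Fact q.Prime := ⟨hq⟩
    haveI : Fact r.Prime := ⟨hr⟩
    have hnt : (⊤ : Subgroup G) ≠ ⊥ := by
      intro h
      obtain ⟨d, ⟨χ, rfl⟩, hd⟩ := hdp
      haveI := Fintype.ofFinite G
      have h1 : Nat.card G = 1 := by rw [← Subgroup.card_top, h, Subgroup.card_bot]
      exact hp.not_dvd_one (h1 ▸ hd.trans (Degrees.charDegree_dvd_card χ))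
    obtain ⟨V, hVn, -, hVne, hmin⟩ := Hall.exists_minimal_normal (⊤ : Subgroup G) hnt
    haveI := hVn
    have hlt : Nat.card (G ⧸ V) < n := by
      have h1 := Subgroup.card_eq_card_quotient_mul_card_subgroup V
      have h2 := (Subgroup.one_lt_card_iff_ne_bot V).2 hVne
      rw [← hn, h1]
      exact lt_mul_of_one_lt_right Nat.card_pos h2
    have hsub := SL2Degrees.charDegrees_subset_of_surjective (QuotientGroup.mk' V)
      (QuotientGroup.mk'_surjective V)
    haveI : Group.IsSolvable (G ⧸ V) :=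
      Group.isSolvable_of_surjective (QuotientGroup.mk'_surjective V)
    by_cases h1 : ∃ d ∈ Cfsg.charDegrees (G ⧸ V), p ∣ d
    swap
    · push Not at h1
      exact reduced (p := q) (q := r) (r := p) (Ne.symm hpq) (Ne.symm hpr) hqr npq npr nqr hdq hdr
        hdp V hVne hmin h1
    by_cases h2 : ∃ d ∈ Cfsg.charDegrees (G ⧸ V), q ∣ d
    swap
    · push Not at h2
      exact reduced (p := p) (q := r) (r := q) hpq (Ne.symm hqr) hpr npq.symm nqr npr hdp hdr
        hdq V hVne hmin h2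
    by_cases h3 : ∃ d ∈ Cfsg.charDegrees (G ⧸ V), r ∣ d
    swap
    · push Not at h3
      exact reduced hpr hqr hpq npr.symm nqr.symm npq hdp hdq hdr V hVne hmin h3
    exact ih _ hlt (G ⧸ V) rfl hp hq hr hpq hqr hpr h1 h2 h3 (fun d hd => npq d (hsub hd))
      (fun d hd => nqr d (hsub hd)) (fun d hd => npr d (hsub hd))

end Cfsg.Agent.BlocksChars.Palfy
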