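import Cfsg.Agent.BlocksChars.Palfy.Cover
import Cfsg.Agent.BlocksChars.Palfy.Frame
import Cfsg.Agent.BlocksChars.Palfy.Degrees
import Cfsg.Agent.Lib.CharP.Zsigmondy

/-!
# No faithful irreducible solvable module has two covers without a degree divisible by both primes
-/

set_option autoImplicit false
set_option linter.style.haveILetI false

namespace Cfsg.Agent.BlocksChars.Palfy

open Module
open scoped IsMulCommutative

universe u v

theorem three_pow_bound (M : ℕ) (hM : 4 ≤ M) : 2 * (2 * M + 1) < 3 ^ M + 1 := by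
  induction M, hM using Nat.le_induction with
  | base => norm_num
  | succ k hk ih => rw [pow_succ]; omega

/-- A self-centralizing cyclic normal subgroup gives its index as a degree. -/
theorem index_mem_of_selfCentralizing {H : Type u} [Group H] [Finite H] (B : Subgroup H) [B.Normal]
    [IsCyclic B] (hC : Subgroup.centralizer (B : Set H) = B) : B.index ∈ Cfsg.charDegrees H := by
  obtain ⟨g, hg⟩ := IsCyclic.exists_generator (α := B)
  have hn : Nat.card B ≠ 0 := Nat.card_pos.ne'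
  haveI : NeZero (Nat.card B) := ⟨hn⟩
  obtain ⟨z, hz⟩ := HasEnoughRootsOfUnity.exists_primitiveRoot ℂ (Nat.card B)
  have hzu : IsPrimitiveRoot (hz.isUnit hn).unit (Nat.card B) := hz.isUnit_unit hn
  let μ : B →* ℂˣ := monoidHomOfForallMemZpowers hg (g' := (hz.isUnit hn).unit) (by
    rw [orderOf_eq_card_of_forall_mem_zpowers hg, ← hzu.eq_orderOf])
  have hμ : Function.Injective μ := by
    rw [injective_iff_map_eq_one]
    intro x hx
    obtain ⟨k, hk⟩ := Subgroup.mem_zpowers_iff.1 (hg x)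
    rw [← hk, map_zpow, monoidHomOfForallMemZpowers_apply_gen, hzu.zpow_eq_one_iff_dvd,
      ← orderOf_eq_card_of_forall_mem_zpowers hg, orderOf_dvd_iff_zpow_eq_one] at hx
    rw [← hk, hx]
  refine index_mem_linear B μ B (fun h => ⟨fun hh n => ?_, fun hh => ?_⟩) le_rfl μ (fun n => rfl)
  · refine congrArg μ (Subtype.ext ?_)
    rw [MulAut.conjNormal_apply]
    have : h ∈ Subgroup.centralizer (B : Set H) := hC.symm ▸ hh
    rw [← Subgroup.mem_centralizer_iff.1 this n n.2, mul_inv_cancel_right]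
  · suffices h' : h ∈ Subgroup.centralizer (B : Set H) by rwa [hC] at h'
    refine Subgroup.mem_centralizer_iff.2 fun n hn => ?_
    have h2 := congrArg Subtype.val (hμ (hh ⟨n, hn⟩))
    rw [MulAut.conjNormal_apply] at h2
    exact (mul_inv_eq_iff_eq_mul.1 h2).symm

theorem exists_two_sylow {H : Type u} [Group H] [Finite H] {p : ℕ} [Fact p.Prime]
    (hnp : ∀ P : Sylow p H, ¬ (P : Subgroup H).Normal) : ∃ P Q : Sylow p H, P ≠ Q := by
  by_contra h
  push Not at h
  obtain ⟨P⟩ : Nonempty (Sylow p H) := inferInstance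
  apply hnp P
  rw [← Subgroup.normalizer_eq_top_iff, eq_top_iff]
  intro g _
  exact Sylow.smul_eq_iff_mem_normalizer.1 (h (g • P) P)

/-- The version with an odd prime. -/
theorem module_false_odd {H : Type u} [Group H] [Finite H] [Group.IsSolvable H] {X : Type v}
    [CommGroup X] [Finite X] [Nontrivial X] {ℓ : ℕ} [Fact ℓ.Prime] (hexp : ∀ x : X, x ^ ℓ = 1)
    (φ : H →* MulAut X) (hφ : Function.Injective φ)
    (hirr : ∀ U : Subgroup X, (∀ h : H, ∀ u ∈ U, φ h u ∈ U) → U = ⊥ ∨ U = ⊤)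
    {p q : ℕ} [hp : Fact p.Prime] [hq : Fact q.Prime] (hpq : p ≠ q) (hp2 : p ≠ 2)
    (hcp : Cover p φ) (hcq : Cover q φ) (hnp : ∀ P : Sylow p H, ¬ (P : Subgroup H).Normal)
    (hnq : ∀ P : Sylow q H, ¬ (P : Subgroup H).Normal)
    (hno : ∀ d ∈ Cfsg.charDegrees H, ¬ p * q ∣ d) : False := by
  classical
  have hℓ : ℓ.Prime := Fact.out
  letI : Module (ZMod ℓ) (Additive X) := AddCommGroup.zmodModule (n := ℓ) fun x => hexp x.toMul
  let ρ : Representation (ZMod ℓ) H (Additive X) :=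
    { toFun := fun h => (MonoidHom.toAdditive (φ h).toMonoidHom).toZModLinearMap ℓ
      map_one' := LinearMap.ext fun x => by simp
      map_mul' := fun a b => LinearMap.ext fun x => by simp }
  have hρ : Function.Injective ρ := fun a b h => hφ (MulEquiv.ext fun x =>
    congrArg (fun T : Additive X →ₗ[ZMod ℓ] Additive X => (T (Additive.ofMul x)).toMul) h)
  have hirr' : ∀ U : Submodule (ZMod ℓ) (Additive X), (∀ h : H, ∀ u ∈ U, ρ h u ∈ U) →
      U = ⊥ ∨ U = ⊤ := by
    intro U hU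
    let U' : Subgroup X :=
      { carrier := {x | Additive.ofMul x ∈ U}
        one_mem' := U.zero_mem
        mul_mem' := fun ha hb => U.add_mem ha hb
        inv_mem' := fun ha => U.neg_mem ha }
    rcases hirr U' fun h x hx => hU h _ hx with h | h
    · refine Or.inl ((Submodule.eq_bot_iff U).2 fun x hx => ?_)
      have : x.toMul ∈ U' := hx
      rw [h, Subgroup.mem_bot] at this
      exact congrArg Additive.ofMul this
    · refine Or.inr (eq_top_iff.2 fun x _ => ?_)
      have : x.toMul ∈ U' := h.symm ▸ Subgroup.mem_top _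
      exact this
  have hcov : ∀ v : Additive X, v ≠ 0 → ∃! P : Sylow p H, ∀ h ∈ P, ρ h v = v := fun v hv =>
    hcp v.toMul hv
  haveI : Nontrivial (Additive X) := inferInstance
  set N := finrank (ZMod ℓ) (Additive X) with hNdef
  have hcardX : Nat.card X = ℓ ^ N := by
    rw [Nat.card_congr (Additive.ofMul : X ≃ Additive X),
      Module.natCard_eq_pow_finrank (K := ZMod ℓ), Nat.card_zmod]
  -- no normal `r`-subgroups
  have hOr : ∀ (r : ℕ) [Fact r.Prime], Cover r φ → ∀ B : Subgroup H, B.Normal →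
      IsMulCommutative B → ∀ x ∈ B, x ^ r = 1 → x = 1 := by
    intro r _ hc B hBn hBc x hx hxr
    let Br : Subgroup H :=
      { carrier := {b | b ∈ B ∧ b ^ r = 1}
        one_mem' := ⟨B.one_mem, one_pow _⟩
        mul_mem' := fun {a b} ha hb => ⟨B.mul_mem ha.1 hb.1, by
          have hab : Commute a b := congrArg Subtype.val (hBc.is_comm.comm (⟨a, ha.1⟩ : B) ⟨b, hb.1⟩)
          rw [hab.mul_pow, ha.2, hb.2, one_mul]⟩
        inv_mem' := fun {a} ha => ⟨B.inv_mem ha.1, by rw [inv_pow, ha.2, inv_one]⟩ }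
    haveI : Br.Normal := ⟨fun b hb g => ⟨hBn.conj_mem b hb.1 g, by
      rw [conj_pow, hb.2, mul_one, mul_inv_cancel]⟩⟩
    have := hc.normal_pGroup_trivial (N := Br) (fun b => ⟨1, Subtype.ext (by
      rw [SubmonoidClass.coe_pow, pow_one]; exact b.2.2)⟩) (h := x) ⟨hx, hxr⟩
    exact hφ (this.trans (map_one φ).symm)
  -- maximal abelian normal subgroup
  obtain ⟨B, ⟨hBn, hBc⟩, hBmax⟩ : ∃ B, Maximal (fun B : Subgroup H =>
      B.Normal ∧ IsMulCommutative B) B :=
    exists_maximal_of_wellFoundedGT _ ⟨⊥, inferInstance, inferInstance⟩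
  haveI := hBn
  have hmax : ∀ D : Subgroup H, D.Normal → IsMulCommutative D → B ≤ D → D = B :=
    fun D hD hDc hle => le_antisymm (hBmax ⟨hD, hDc⟩ hle) hle
  have hpH : p ∣ Nat.card H := by
    by_contra h
    obtain ⟨P⟩ : Nonempty (Sylow p H) := inferInstance
    refine hnp P ?_
    have h1 : (P : Subgroup H) = ⊥ := by
      rw [← Subgroup.card_eq_one, P.card_eq_multiplicity, Nat.factorization_eq_zero_of_not_dvd h,
        pow_zero]
    rw [h1]; infer_instance
  have hno0 : ∀ a ∈ algB ρ B, a ≠ 0 → ∀ w : Additive X, a w = 0 → w = 0 := fun a ha ha0 w h =>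
    algB_injective hp2 hcov hBc hρ hpH hirr' ha ha0 h
  have hrH : ∀ (r : ℕ) [Fact r.Prime], (∀ P : Sylow r H, ¬ (P : Subgroup H).Normal) →
      r ∣ Nat.card H := by
    intro r _ hn
    by_contra h
    obtain ⟨P⟩ : Nonempty (Sylow r H) := inferInstance
    refine hn P ?_
    have h1 : (P : Subgroup H) = ⊥ := by
      rw [← Subgroup.card_eq_one, P.card_eq_multiplicity, Nat.factorization_eq_zero_of_not_dvd h,
        pow_zero]
    rw [h1]; infer_instance
  by_cases hC : Subgroup.centralizer (B : Set H) = B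
  · -- the cyclic case
    haveI := hBc
    haveI : Finite (Module.End (ZMod ℓ) (Additive X)) :=
      Finite.of_injective _ DFunLike.coe_injective
    set A := algB ρ B
    letI : CommRing A := { (inferInstance : Ring A) with
      mul_comm := fun a b => Subtype.ext (algB_comm ρ B hBc a.2 b.2) }
    haveI : IsDomain A := by
      haveI : Nontrivial A := ⟨⟨0, 1, fun h => zero_ne_one (α := Module.End (ZMod ℓ) (Additive X))
        (congrArg Subtype.val h)⟩⟩
      haveI : NoZeroDivisors A := ⟨fun {a b} hab => by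
        by_contra hcon
        push Not at hcon
        exact hcon.2 (Subtype.ext (LinearMap.ext fun w => hno0 a.1 a.2
          (fun h => hcon.1 (Subtype.ext h)) _ (LinearMap.congr_fun (congrArg Subtype.val hab) w)))⟩
      exact NoZeroDivisors.to_isDomain _
    let ι : B →* A :=
      { toFun := fun b => ⟨ρ b, mem_algB b.2⟩
        map_one' := Subtype.ext (map_one ρ)
        map_mul' := fun a b => Subtype.ext (map_mul ρ (a : H) b) }
    haveI : IsCyclic B := isCyclic_of_injective_ringHom ι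
      fun a b h => Subtype.ext (hρ (congrArg Subtype.val h))
    refine hno _ (index_mem_of_selfCentralizing B hC) ?_
    have hd : ∀ (r : ℕ) [Fact r.Prime], Cover r φ → (∀ P : Sylow r H, ¬ (P : Subgroup H).Normal) →
        r ∣ B.index := by
      intro r hr hc hn
      have h := hrH r hn
      rw [← B.card_mul_index] at h
      refine (hr.out.dvd_mul.1 h).resolve_left fun hB' => ?_
      obtain ⟨x, hx⟩ := exists_prime_orderOf_dvd_card' r hB'
      have h1 := hOr r hc B hBn hBc x x.2 (by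
        rw [← SubmonoidClass.coe_pow, ← hx, pow_orderOf_eq_one, OneMemClass.coe_one])
      rw [OneMemClass.coe_eq_one] at h1
      rw [h1, orderOf_one] at hx
      exact hr.out.ne_one hx.symm
    exact ((Nat.coprime_primes hp.out hq.out).2 hpq).mul_dvd_of_dvd_of_dvd (hd p hcp hnp) (hd q hcq hnq)
  obtain ⟨F0⟩ := exists_frame ρ hρ B hBc hmax hno0 hC
  obtain ⟨f, d, hf0, hd2, hfd, hsdvd, hYle, hkey, hscal⟩ := F0.main
  set Yc := F0.B.relIndex F0.M
  set s := F0.s
  have hs : s.Prime := F0.prime_s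
  have hs2 : s ^ 2 ≤ Yc := F0.sq_le_card
  obtain ⟨kY, hkY⟩ : ∃ k, Yc = s ^ k := F0.exists_card_Y
  have hMnc : ∃ m ∈ F0.M, ∃ m' ∈ F0.M, m * m' ≠ m' * m := by
    by_contra h
    push Not at h
    exact F0.ne (le_antisymm (fun m hm => F0.center_le m hm (h m hm)) F0.le)
  have hrs : ∀ (r : ℕ) [Fact r.Prime], Cover r φ → r ≠ s := by
    intro r _ hc he
    obtain ⟨m, hm, m', hm', hne⟩ := hMnc
    have hz := F0.commutator_mem_Z hm hm'
    refine hne (commutatorElement_eq_one_iff_mul_comm.1 ?_)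
    exact hOr r hc F0.B F0.normB F0.commB _ hz.1 (he ▸ hz.2)
  -- partition
  have hpart : ∀ (r : ℕ) [Fact r.Prime], Cover r φ → (∀ P : Sylow r H, ¬ (P : Subgroup H).Normal) →
      ∃ a, 2 * a ≤ N ∧ 0 < a ∧ Nat.card (Sylow r H) * (ℓ ^ a - 1) = ℓ ^ N - 1 := by
    intro r _ hc hn
    obtain ⟨P, Q, hne⟩ := exists_two_sylow hn
    have hsq := hc.sq_le hne
    have heq := hc.card_eq P
    have hU : IsPGroup ℓ (fixSub φ (P : Subgroup H)) := fun x => ⟨1, Subtype.ext (by
      rw [pow_one, SubmonoidClass.coe_pow, hexp]; rfl)⟩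
    obtain ⟨a, ha⟩ := IsPGroup.iff_card.1 hU
    rw [ha, hcardX, ← pow_mul] at hsq
    rw [ha, hcardX] at heq
    refine ⟨a, by have := (Nat.pow_le_pow_iff_right hℓ.one_lt).1 hsq; omega, ?_, heq.symm⟩
    by_contra h0
    obtain rfl : a = 0 := by omega
    have h1 : 0 < N := finrank_pos
    have h2 := Nat.one_lt_pow h1.ne' hℓ.one_lt
    simp at heq
    omega
  obtain ⟨ap, hap, hap0, hnP⟩ := hpart p hcp hnp
  obtain ⟨aq, haq, haq0, hnQ⟩ := hpart q hcq hnq
  have hN2 : 2 ≤ N := by omega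
  -- elements of order `p`, `q`
  have hsmall : ∀ (r : ℕ) [Fact r.Prime], Cover r φ → (∀ P : Sylow r H, ¬ (P : Subgroup H).Normal) →
      r ≠ 2 → ¬ r ∣ f → Yc = d ^ 2 → r - 1 ≤ d := by
    intro r hr hc hn hr2 hrf hY
    obtain ⟨h, hh⟩ := exists_prime_orderOf_dvd_card' r (hrH r hn)
    have hh1 : h ^ r = 1 := by rw [← hh, pow_orderOf_eq_one]
    have hne : h ≠ 1 := fun e => hr.out.ne_one (by rw [← hh, e, orderOf_one])
    rcases hkey h r hr.out hr2 (hrs r hc) hh1 hne with hf | hcen | ⟨hle, -⟩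
    · exact absurd hf hrf
    · exact absurd (hOr r hc F0.B F0.normB F0.commB h (hscal hY h hcen) hh1) hne
    · rw [hY] at hle
      exact (Nat.pow_le_pow_iff_left two_ne_zero).1 hle
  have hfN : f ≤ N := by rw [hNdef, ← hfd]; exact Nat.le_mul_of_pos_right _ (by omega)
  have hfltN : f < N := by
    rw [hNdef, ← hfd]
    exact lt_mul_of_one_lt_right hf0 (by omega)
  -- primitive prime divisors
  have hprim : ∀ t : ℕ, t.Prime → t ∣ ℓ ^ N - 1 → (∀ k, 0 < k → k < N → ¬ t ∣ ℓ ^ k - 1) →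
      f = 1 ∧ d = N ∧ t = N + 1 ∧ Yc = N ^ 2 ∧ t ∣ Nat.card (Sylow p H) ∧ t ≠ p ∧ t ≠ q ∧
        ∀ g : H, g ^ t = 1 → g ≠ 1 → F0.Free g := by
    intro t ht htN htk
    haveI : Fact t.Prime := ⟨ht⟩
    have hdiv : ∀ (r : ℕ) [Fact r.Prime] (a : ℕ), 2 * a ≤ N → 0 < a →
        Nat.card (Sylow r H) * (ℓ ^ a - 1) = ℓ ^ N - 1 →
        t ∣ Nat.card (Sylow r H) ∧ t ≠ r := by
      intro r hr a ha ha0 h
      have h1 : t ∣ Nat.card (Sylow r H) :=
        (ht.dvd_mul.1 (h ▸ htN)).resolve_right (htk a ha0 (by omega))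
      refine ⟨h1, ?_⟩
      rintro rfl
      have h2 := card_sylow_modEq_one t H
      rw [Nat.ModEq, Nat.mod_eq_zero_of_dvd h1, Nat.one_mod_eq_one.2 ht.ne_one] at h2
      exact absurd h2 zero_ne_one
    obtain ⟨htn, htp⟩ := hdiv p ap hap hap0 hnP
    obtain ⟨-, htq⟩ := hdiv q aq haq haq0 hnQ
    have htℓ : ¬ t ∣ ℓ := fun h => by
      have h1 : t ∣ ℓ ^ N := h.trans (dvd_pow_self ℓ (by omega))
      have h2 := Nat.dvd_sub h1 htN
      rw [Nat.sub_sub_self (Nat.one_le_pow _ _ hℓ.pos)] at h2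
      exact ht.ne_one (Nat.dvd_one.1 h2)
    have htN1 : N + 1 ≤ t := by
      by_contra hlt
      have hℓ0 : (ℓ : ZMod t) ≠ 0 := by rwa [ne_eq, ZMod.natCast_eq_zero_iff]
      have h1 := ZMod.pow_card_sub_one_eq_one hℓ0
      have h2 : ((ℓ ^ (t - 1) : ℕ) : ZMod t) = ((1 : ℕ) : ZMod t) := by push_cast; exact h1
      rw [ZMod.natCast_eq_natCast_iff] at h2
      have := ht.two_le
      exact htk (t - 1) (by omega) (by omega)
        ((Nat.modEq_iff_dvd' (Nat.one_le_pow _ _ hℓ.pos)).1 h2.symm)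
    have ht2 : t ≠ 2 := by omega
    have hts : t ≠ s := fun e => htk f hf0 hfltN (e ▸ hsdvd)
    have htf : ¬ t ∣ f := fun h => by
      have := Nat.le_of_dvd hf0 h
      omega
    have hH : t ∣ Nat.card H := by
      obtain ⟨P⟩ : Nonempty (Sylow p H) := inferInstance
      exact htn.trans ((P.card_dvd_index).trans (Subgroup.index_dvd_card _))
    have hgB : ∀ g : H, g ^ t = 1 → g ≠ 1 →
        (t - 1) ^ 2 ≤ Yc ∧ ((t - 1) ^ 2 = Yc → F0.Free g) := by
      intro g hgt hg1
      rcases hkey g t ht ht2 hts hgt hg1 with h | h | h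
      · exact absurd h htf
      · exfalso
        obtain ⟨m, hm, m', hm', hne⟩ := hMnc
        have hirrg := irreducible_of_primitive (K := ZMod ℓ) (g := ρ g) ht
          (by rw [← map_pow, hgt, map_one]) (fun e => hg1 (hρ (e.trans (map_one ρ).symm)))
          (by rwa [Nat.card_zmod]) (by rw [Nat.card_zmod]; exact htk)
        have hc : ∀ x ∈ F0.M, Commute (ρ g) (ρ x) := fun x hx => by
          rw [commute_iff_eq, ← map_mul, ← map_mul, h x hx]
        have := (comm_of_irreducible hirrg (hc m hm) (hc m' hm')).eq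
        rw [← map_mul, ← map_mul] at this
        exact hne (hρ this)
      · exact h
    obtain ⟨g0, hg0⟩ := exists_prime_orderOf_dvd_card' t hH
    obtain ⟨hle, -⟩ := hgB g0 (by rw [← hg0, pow_orderOf_eq_one])
      (fun e => ht.ne_one (by rw [← hg0, e, orderOf_one]))
    have htd : t - 1 ≤ d := (Nat.pow_le_pow_iff_left two_ne_zero).1 (hle.trans hYle)
    have hf1 : f = 1 := by
      by_contra hne
      have h2 : 2 * d ≤ N := by
        rw [hNdef, ← hfd]; exact Nat.mul_le_mul_right _ (by omega)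
      omega
    have hdN : d = N := by rw [hNdef, ← hfd, hf1, one_mul]
    have htN' : t = N + 1 := by omega
    have hY : Yc = N ^ 2 := by
      rw [htN', Nat.add_sub_cancel] at hle
      exact le_antisymm (hdN ▸ hYle) hle
    refine ⟨hf1, hdN, htN', hY, htn, htp, htq, fun g hgt hg1 => (hgB g hgt hg1).2 ?_⟩
    rw [hY, htN', Nat.add_sub_cancel]
  -- `N = 2`
  by_cases hN : N = 2
  · have hf1 : f = 1 := by omega
    have hdN : d = 2 := by rw [← hN, hNdef, ← hfd, hf1, one_mul]
    subst hdN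
    have hseq : s = 2 := by
      have := (Nat.pow_le_pow_iff_left two_ne_zero).1 (hs2.trans hYle)
      have := hs.two_le
      omega
    have hY : Yc = 2 ^ 2 := le_antisymm hYle (by rw [← hseq]; exact hseq ▸ hs2)
    have h1 := hsmall p hcp hnp hp2 (by rw [hf1]; exact hp.out.not_dvd_one) hY
    have hq2 : q ≠ 2 := fun e => hrs q hcq (e.trans hseq.symm)
    have h2 := hsmall q hcq hnq hq2 (by rw [hf1]; exact hq.out.not_dvd_one) hY
    have := hp.out.two_le
    have := hq.out.two_le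
    omega
  by_cases h26 : ℓ = 2 ∧ N = 6
  · obtain ⟨hl, hN6⟩ := h26
    subst hl
    have hfd6 : f * d = 6 := hfd.trans hN6
    have hf6 : f ∣ 6 := ⟨d, hfd6.symm⟩
    have hfle : f ≤ 3 := by nlinarith
    rcases (by omega : f = 1 ∨ f = 2 ∨ f = 3) with rfl | rfl | rfl
    · norm_num at hsdvd
      exact hs.ne_one hsdvd
    · obtain rfl : d = 3 := by omega
      have hs3 : s = 3 := (Nat.prime_dvd_prime_iff_eq hs Nat.prime_three).1 hsdvd
      have hY : Yc = 3 ^ 2 := le_antisymm hYle (by rw [← hs3]; exact hs3 ▸ hs2)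
      have h1 := hsmall p hcp hnp hp2
        (fun h => hp2 ((Nat.prime_dvd_prime_iff_eq hp.out Nat.prime_two).1 h)) hY
      have h3 : p ≠ 3 := fun e => hrs p hcp (e.trans hs3.symm)
      have h4 : p ≠ 4 := fun e => by
        have := hp.out
        rw [e] at this
        exact absurd this (by norm_num)
      have := hp.out.two_le
      omega
    · obtain rfl : d = 2 := by omega
      have hs7 : s = 7 := (Nat.prime_dvd_prime_iff_eq hs (by norm_num : (7 : ℕ).Prime)).1 hsdvd
      have := hs2.trans hYle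
      rw [hs7] at this
      omega
  -- general case
  obtain ⟨t, ht, htN, htk⟩ := Cfsg.Agent.CharP.Zsigmondy.zsigmondy hℓ.one_lt (by omega : 1 < N) h26
    (fun h => hN h.1)
  obtain ⟨hf1, hdN, htN1, hY, htn, htp, htq, -⟩ := hprim t ht htN htk
  have hseq : s = 2 := by
    have h2 : 2 ∣ s ^ kY := by
      rw [← hkY, hY]
      obtain ⟨j, hj⟩ := ht.odd_of_ne_two (by omega)
      exact dvd_pow ⟨j, by omega⟩ two_ne_zero
    exact ((Nat.prime_dvd_prime_iff_eq Nat.prime_two hs).1 (Nat.prime_two.dvd_of_dvd_pow h2)).symm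
  obtain ⟨j, -, hNj⟩ : ∃ j ≤ kY, N = 2 ^ j := (Nat.dvd_prime_pow Nat.prime_two).1 (by
    rw [← hseq, ← hkY, hY]; exact dvd_pow_self N two_ne_zero)
  have hℓ2 : ℓ ≠ 2 := fun e => by
    rw [e, hf1, hseq] at hsdvd
    norm_num at hsdvd
  have hj : 2 ≤ j := by
    rcases j with _ | _ | j
    · rw [pow_zero] at hNj; omega
    · rw [zero_add, pow_one] at hNj; exact absurd hNj hN
    · omega
  rcases (by omega : j = 2 ∨ 3 ≤ j) with rfl | hj3
  · have hN4 : N = 4 := hNj
    have hY' : Yc = d ^ 2 := by rw [hY, hdN]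
    have h1 := hsmall p hcp hnp hp2 (by rw [hf1]; exact hp.out.not_dvd_one) hY'
    have hq2 : q ≠ 2 := fun e => hrs q hcq (e.trans hseq.symm)
    have h2 := hsmall q hcq hnq hq2 (by rw [hf1]; exact hq.out.not_dvd_one) hY'
    have hp4 : p ≠ 4 := fun e => absurd (e ▸ hp.out) (by norm_num)
    have hq4 : q ≠ 4 := fun e => absurd (e ▸ hq.out) (by norm_num)
    have := hp.out.two_le
    have := hq.out.two_le
    omega
  -- `N` a large power of two
  obtain ⟨m, hm⟩ : ∃ m, N = 2 * m := ⟨2 ^ (j - 1), by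
    rw [hNj, ← pow_succ']; congr 1; omega⟩
  have hm4 : 4 ≤ m := by
    have : 2 ^ 3 ≤ 2 ^ j := Nat.pow_le_pow_right (by norm_num) hj3
    omega
  have hmj : m = 2 ^ (j - 1) := by
    have : (2 : ℕ) ^ j = 2 * 2 ^ (j - 1) := by rw [← pow_succ']; congr 1; omega
    omega
  have hℓodd : Odd ℓ := hℓ.odd_of_ne_two hℓ2
  have hdvdN : ℓ ^ m + 1 ∣ ℓ ^ N - 1 := by
    have := Nat.sq_sub_sq (ℓ ^ m) 1
    rw [one_pow, ← pow_mul, mul_comm m, ← hm] at this
    exact ⟨_, this⟩
  have hodd_t : ∀ r : ℕ, r.Prime → r ∣ ℓ ^ m + 1 → r = 2 ∨ r = t := by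
    intro r hr hdr
    by_cases hr2 : r = 2
    · exact Or.inl hr2
    refine Or.inr ?_
    have hpr : ∀ k, 0 < k → k < N → ¬ r ∣ ℓ ^ k - 1 := by
      intro k hk0 hkN hk
      have h1 : r ∣ ℓ ^ Nat.gcd k N - 1 := by
        rw [← Nat.pow_sub_one_gcd_pow_sub_one]
        exact Nat.dvd_gcd hk (hdr.trans hdvdN)
      obtain ⟨i, hij, hi⟩ := (Nat.dvd_prime_pow Nat.prime_two).1
        (show Nat.gcd k N ∣ 2 ^ j by rw [← hNj]; exact Nat.gcd_dvd_right k N)
      have hilt : i < j := by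
        by_contra hge
        obtain rfl : i = j := by omega
        have := Nat.gcd_le_left (m := k) N hk0
        omega
      have h2 : ℓ ^ Nat.gcd k N - 1 ∣ ℓ ^ m - 1 :=
        Nat.pow_sub_one_dvd_pow_sub_one _ (by rw [hi, hmj]; exact pow_dvd_pow 2 (by omega))
      have h3 := Nat.dvd_sub hdr (h1.trans h2)
      have h4 : ℓ ^ m + 1 - (ℓ ^ m - 1) = 2 := by
        have := Nat.one_le_pow m ℓ hℓ.pos
        omega
      rw [h4] at h3
      exact hr2 ((Nat.prime_dvd_prime_iff_eq hr Nat.prime_two).1 h3)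
    obtain ⟨-, -, hrN, -⟩ := hprim r hr (hdr.trans hdvdN) hpr
    omega
  have h4 : ¬ 2 ^ 2 ∣ ℓ ^ m + 1 := by
    intro h
    obtain ⟨c, hc⟩ : ∃ c, m = 2 * c := ⟨2 ^ (j - 2), by rw [hmj, ← pow_succ']; congr 1; omega⟩
    obtain ⟨e, he⟩ := hℓodd.pow (n := c)
    rw [hc, mul_comm 2 c, pow_mul, he] at h
    have : (2 * e + 1) ^ 2 + 1 = 4 * (e ^ 2 + e) + 2 := by ring
    omega
  have htsq : ¬ t ^ 2 ∣ ℓ ^ m + 1 := by
    intro h
    haveI : Fact t.Prime := ⟨ht⟩
    have h1 : t ^ 2 ∣ Nat.card (Sylow p H) * (ℓ ^ ap - 1) := hnP.symm ▸ h.trans hdvdN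
    have h2 : t ^ 2 ∣ Nat.card (Sylow p H) := by
      refine ((Nat.Prime.coprime_iff_not_dvd ht).2 (htk ap hap0 (by omega))).pow_left 2
        |>.dvd_of_dvd_mul_right h1
    obtain ⟨P⟩ : Nonempty (Sylow p H) := inferInstance
    have h3 : t ^ 2 ∣ Nat.card H := h2.trans ((P.card_dvd_index).trans (Subgroup.index_dvd_card _))
    obtain ⟨T⟩ : Nonempty (Sylow t H) := inferInstance
    have hT : t ^ 2 ∣ Nat.card (T : Subgroup H) := by
      rw [T.card_eq_multiplicity]
      exact pow_dvd_pow t ((ht.pow_dvd_iff_le_factorization Nat.card_pos.ne').1 h3)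
    obtain ⟨-, -, -, -, -, -, -, hfree⟩ := hprim t ht htN htk
    have hfreeT : ∀ x ∈ (T : Subgroup H), x ≠ 1 → F0.Free x := by
      intro x hx hx1
      obtain ⟨k, hk⟩ := IsPGroup.iff_orderOf.1 T.isPGroup' (⟨x, hx⟩ : (T : Subgroup H))
      rw [Subgroup.orderOf_mk] at hk
      rcases k with _ | k
      · rw [pow_zero, orderOf_eq_one_iff] at hk; exact absurd hk hx1
      have hg : x ^ t ^ k ≠ 1 := fun e => by
        have h5 := Nat.le_of_dvd (pow_pos ht.pos k) (hk ▸ orderOf_dvd_of_pow_eq_one e)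
        have h6 : t ^ k < t ^ (k + 1) := Nat.pow_lt_pow_right ht.one_lt (by omega)
        omega
      have hgf := hfree (x ^ t ^ k)
        (by rw [← pow_mul, ← pow_succ, ← hk, pow_orderOf_eq_one]) hg
      rw [F0.free_iff] at hgf ⊢
      intro y hy
      refine hgf y ?_
      rw [map_pow]
      generalize t ^ k = i
      induction i with
      | zero => simp
      | succ i ih => rw [pow_succ, MulAut.mul_apply, hy, ih]
    have h5 := hT.trans (F0.card_dvd_of_free _ hfreeT)
    rw [show F0.B.relIndex F0.M = N ^ 2 from hY] at h5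
    have h6 : N ^ 2 - 1 = t * (N - 1) := by
      rw [htN1]; simpa using Nat.sq_sub_sq N 1
    rw [h6, sq] at h5
    have h7 := Nat.le_of_dvd (by omega) (Nat.dvd_of_mul_dvd_mul_left ht.pos h5)
    omega
  have hle : ℓ ^ m + 1 ∣ 2 * t := by
    rw [Nat.dvd_iff_prime_pow_dvd_dvd]
    intro r k hr hrk
    rcases k with _ | _ | k
    · simp
    · rcases hodd_t r hr ((dvd_pow_self r (by omega)).trans hrk) with rfl | rfl
      · simp
      · simp
    · exfalso
      have hsq2 : r ^ 2 ∣ ℓ ^ m + 1 := (pow_dvd_pow r (by omega)).trans hrk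
      rcases hodd_t r hr ((dvd_pow_self r two_ne_zero).trans hsq2) with rfl | rfl
      exacts [h4 hsq2, htsq hsq2]
  have h8 := Nat.le_of_dvd (by omega) hle
  have h9 := three_pow_bound m hm4
  have h10 : 3 ^ m ≤ ℓ ^ m := Nat.pow_le_pow_left (by have := hℓ.two_le; omega) m
  omega

/-- No faithful irreducible solvable group has two covers and no degree divisible by both primes. -/
theorem module_false {H : Type u} [Group H] [Finite H] [Group.IsSolvable H] {X : Type v}
    [CommGroup X] [Finite X] [Nontrivial X] {ℓ : ℕ} [Fact ℓ.Prime] (hexp : ∀ x : X, x ^ ℓ = 1)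
    (φ : H →* MulAut X) (hφ : Function.Injective φ)
    (hirr : ∀ U : Subgroup X, (∀ h : H, ∀ u ∈ U, φ h u ∈ U) → U = ⊥ ∨ U = ⊤)
    {p q : ℕ} [hp : Fact p.Prime] [hq : Fact q.Prime] (hpq : p ≠ q)
    (hcp : Cover p φ) (hcq : Cover q φ) (hnp : ∀ P : Sylow p H, ¬ (P : Subgroup H).Normal)
    (hnq : ∀ P : Sylow q H, ¬ (P : Subgroup H).Normal)
    (hno : ∀ d ∈ Cfsg.charDegrees H, ¬ p * q ∣ d) : False := by
  by_cases hp2 : p = 2
  · exact module_false_odd hexp φ hφ hirr hpq.symm (fun e => hpq (hp2.trans e.symm)) hcq hcp hnq hnp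
      fun d hd => by rw [mul_comm]; exact hno d hd
  · exact module_false_odd hexp φ hφ hirr hpq hp2 hcp hcq hnp hnq hno

end Cfsg.Agent.BlocksChars.Palfy
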