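import Cfsg.Agent.BlocksChars.Palfy.Cover
import Cfsg.Agent.BlocksChars.Palfy.Split

/-!
# The kernel of the norm of a normal subgroup acting coprimely, and a count of two partitions
-/

set_option autoImplicit false
set_option linter.style.haveILetI false

namespace Cfsg.Agent.BlocksChars.Palfy

universe u v

variable {H : Type u} [Group H] {A : Type v} [CommGroup A] (φ : H →* MulAut A) (P : Subgroup H)
  [Fintype P]

/-- The norm. -/
noncomputable def normHom : A →* A where
  toFun a := ∏ h : P, φ (h : H) a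
  map_one' := Finset.prod_eq_one fun h _ => map_one _
  map_mul' a b := by simp only [map_mul, Finset.prod_mul_distrib]

theorem normHom_apply (a : A) : normHom φ P a = ∏ h : P, φ (h : H) a := rfl

attribute [irreducible] normHom

theorem normHom_conj [P.Normal] (g : H) (a : A) : normHom φ P (φ g a) = φ g (normHom φ P a) := by
  rw [normHom_apply, normHom_apply, map_prod]
  refine Fintype.prod_equiv (MulAut.conjNormal g⁻¹ : MulAut P).toEquiv _ _ fun h => ?_
  rw [← MulAut.mul_apply, ← MulAut.mul_apply, ← map_mul, ← map_mul]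
  refine congrArg (fun z => φ z a) ?_
  show (h : H) * g = g * ((MulAut.conjNormal g⁻¹ h : P) : H)
  rw [MulAut.conjNormal_apply]; group

theorem div_mem_ker {h : H} (hh : h ∈ P) (a : A) : φ h a / a ∈ (normHom φ P).ker := by
  rw [MonoidHom.mem_ker, map_div, div_eq_one, normHom_apply, normHom_apply]
  refine Fintype.prod_equiv (Equiv.mulRight (⟨h, hh⟩ : P)) _ _ fun k => ?_
  rw [Equiv.coe_mulRight, Subgroup.coe_mul, map_mul, MulAut.mul_apply]

variable {φ P}

theorem ker_mem [P.Normal] (g : H) {a : A} (ha : a ∈ (normHom φ P).ker) :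
    φ g a ∈ (normHom φ P).ker := by
  rw [MonoidHom.mem_ker] at ha ⊢
  rw [normHom_conj, ha, map_one]

/-- A subgroup containing all `φ h a / a` contains `a`. -/
theorem mem_of_ker (hcop : (Nat.card A).Coprime (Nat.card P)) (S : Subgroup A) {a : A}
    (ha : a ∈ (normHom φ P).ker) (h : ∀ k ∈ P, φ k a / a ∈ S) : a ∈ S := by
  have hS : (Nat.card (A ⧸ S)).Coprime (Nat.card P) :=
    Nat.Coprime.coprime_dvd_left (Subgroup.card_quotient_dvd_card S) hcop
  rw [← QuotientGroup.eq_one_iff]
  refine (powCoprime hS).injective ?_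
  show (a : A ⧸ S) ^ Nat.card P = (1 : A ⧸ S) ^ Nat.card P
  rw [one_pow, ← QuotientGroup.mk_one, ← (MonoidHom.mem_ker.1 ha), normHom_apply,
    ← QuotientGroup.mk'_apply, ← QuotientGroup.mk'_apply, map_prod, Nat.card_eq_fintype_card,
    ← Finset.card_univ, ← Finset.prod_const]
  refine Finset.prod_congr rfl fun k _ => ?_
  rw [eq_comm, ← div_eq_one, ← map_div]
  exact (QuotientGroup.eq_one_iff _).2 (h k k.2)

theorem fixed_eq_one (hcop : (Nat.card A).Coprime (Nat.card P)) {a : A}
    (ha : a ∈ (normHom φ P).ker) (h : ∀ k ∈ P, φ k a = a) : a = 1 :=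
  Subgroup.mem_bot.1 (mem_of_ker hcop ⊥ ha fun k hk => Subgroup.mem_bot.2 (div_eq_one.2 (h k hk)))

theorem exists_ker_ne_one {h : H} (hh : h ∈ P) {a : A} (hne : φ h a ≠ a) :
    ∃ γ ∈ (normHom φ P).ker, γ ≠ 1 :=
  ⟨_, div_mem_ker φ P hh a, fun e => hne (div_eq_one.1 e)⟩

theorem exists_moved_of_ker (hcop : (Nat.card A).Coprime (Nat.card P)) {a : A}
    (ha : a ∈ (normHom φ P).ker) (hne : a ≠ 1) : ∃ h ∈ P, φ h a ≠ a := by
  by_contra hcon
  push Not at hcon
  exact hne (fixed_eq_one hcop ha hcon)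

variable (φ P)

/-- The action on the kernel of the norm. -/
noncomputable def kerAct [P.Normal] : H →* MulAut (normHom φ P).ker where
  toFun g :=
    { toFun := fun a => ⟨φ g a.1, ker_mem g a.2⟩
      invFun := fun a => ⟨φ g⁻¹ a.1, ker_mem _ a.2⟩
      left_inv := fun a => Subtype.ext (by simp)
      right_inv := fun a => Subtype.ext (by simp)
      map_mul' := fun a b => Subtype.ext (map_mul (φ g) a.1 b.1) }
  map_one' := MulEquiv.ext fun a => Subtype.ext (by simp)
  map_mul' g k := MulEquiv.ext fun a => Subtype.ext (by simp)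

theorem stabSub_kerAct [P.Normal] (a : (normHom φ P).ker) :
    stabSub (kerAct φ P) a = stabSub φ a.1 :=
  Subgroup.ext fun _ => ⟨fun h => congrArg Subtype.val h, fun h => Subtype.ext h⟩

omit [Fintype P] φ P in
/-- Two covers by the same Sylow subgroups of spaces of different sizes. -/
theorem partition_false {H : Type u} [Group H] [Finite H] {q r : ℕ} [Fact q.Prime] [Fact r.Prime]
    {X : Type v} [CommGroup X] [Finite X] [Nontrivial X] {Y : Type v} [CommGroup Y] [Finite Y]
    {α : H →* MulAut X} {β : H →* MulAut Y} (hα : Cover q α) (hβ : Cover q β)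
    (hX : IsPGroup r X) (hY : IsPGroup r Y) {P Q : Sylow q H} (hne : P ≠ Q)
    (hlt : Nat.card X < Nat.card Y) : False := by
  obtain ⟨b, hb⟩ := hX.exists_card_eq
  obtain ⟨N, hN⟩ := hY.exists_card_eq
  obtain ⟨a, ha⟩ := (hY.to_subgroup (fixSub β (P : Subgroup H))).exists_card_eq
  have hr : 2 ≤ r := (Fact.out : r.Prime).two_le
  have hb0 : 0 < b := by
    by_contra hb0
    obtain rfl : b = 0 := by omega
    exact absurd hb (by have := Finite.one_lt_card (α := X); simp; omega)
  refine no_two_partitions (n := Nat.card (Sylow q H)) (a := a) hr hb0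
    ((Nat.pow_lt_pow_iff_right hr).1 (hb ▸ hN ▸ hlt)) ?_ ?_ ?_
  · refine (Nat.pow_le_pow_iff_right hr).1 ?_
    rw [mul_comm, pow_mul, ← ha, ← hN]
    exact hβ.sq_le hne
  · rw [← ha, ← hN]; exact (hβ.card_eq P).symm
  · rw [← hb, hα.card_eq P]; exact dvd_mul_right _ _

end Cfsg.Agent.BlocksChars.Palfy
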