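import Cfsg.Agent.BlocksChars.Palfy.Split
import Cfsg.Agent.BlocksChars.PrimeDegrees
import Cfsg.Agent.BlocksChars.DerivedLength
import Cfsg.Agent.Lib.CharTheory.Extraspecial
import Cfsg.Agent.Lib.CharTheory.NormalSylow.Extend
import Cfsg.Agent.Lib.Characters.Kernel

/-!
# Characters of a normal subgroup with central derived subgroup over a linear character of the latter
-/

set_option autoImplicit false
set_option linter.style.haveILetI false

namespace Cfsg.Agent.BlocksChars.Palfy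

open Cfsg.Agent.Characters Cfsg.Agent.CharTheory Cfsg.Agent.BlocksChars
open scoped BigOperators ComplexConjugate

universe u

variable {G : Type u} [Group G] {R V : Subgroup G}

/-- Multiplication by a linear character. -/
def mulLin (a : R →* ℂˣ) (θ : R → ℂ) : R → ℂ := fun x => (a x : ℂ) * θ x

theorem mulLin_mulLin (a b : R →* ℂˣ) (θ : R → ℂ) :
    mulLin a (mulLin b θ) = mulLin (a * b) θ := funext fun x => by
  simp [mulLin, mul_assoc]

theorem mulLin_one (θ : R → ℂ) : mulLin 1 θ = θ := funext fun x => by simp [mulLin]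

theorem mulLin_inv (a : R →* ℂˣ) (θ : R → ℂ) : mulLin a⁻¹ (mulLin a θ) = θ := funext fun x => by
  simp [mulLin]

theorem mulLin_self_inv (a : R →* ℂˣ) (θ : R → ℂ) : mulLin a (mulLin a⁻¹ θ) = θ :=
  funext fun x => by simp [mulLin]

theorem mulLin_cancel (c : R →* ℂˣ) {a b : R →* ℂˣ} {θ : R → ℂ}
    (h : mulLin (a * c) θ = mulLin (b * c) θ) : mulLin a θ = mulLin b θ := by
  refine funext fun x => ?_
  have := congrFun h x
  simp only [mulLin, MonoidHom.mul_apply, Units.val_mul] at this ⊢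
  rw [mul_right_comm, mul_right_comm (b x : ℂ)] at this
  exact mul_right_cancel₀ (c x).ne_zero this

/-- Conjugation of functions. -/
def hact [R.Normal] (g : G) (θ : R → ℂ) : R → ℂ := Clifford.conjBy R g⁻¹ θ

theorem hact_apply [R.Normal] (g : G) (θ : R → ℂ) (x : R) :
    hact g θ x = θ (MulAut.conjNormal g⁻¹ x) := congrArg θ (Subtype.ext (by simp))

theorem hact_hact [R.Normal] (g h : G) (θ : R → ℂ) : hact g (hact h θ) = hact (g * h) θ := by
  funext x
  rw [hact_apply, hact_apply, hact_apply, mul_inv_rev, map_mul, MulAut.mul_apply]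

theorem hact_mulLin [R.Normal] (g : G) (a : R →* ℂˣ) (θ : R → ℂ) :
    hact g (mulLin a θ) = mulLin (dualAct R g a) (hact g θ) := by
  funext x
  simp only [mulLin, hact_apply, dualAct_apply]

theorem hact_eq_iff [R.Normal] (g : G) (θ : R → ℂ) :
    hact g θ = θ ↔ g ∈ ItoPSolvable.inertia R θ := by
  show g⁻¹ ∈ ItoPSolvable.inertia R θ ↔ _
  exact inv_mem_iff

/-- `θ` lies over `l`. -/
def Over (hVR : V ≤ R) (l : V →* ℂˣ) (θ : R → ℂ) : Prop :=
  ∀ (v : V) (x : R), θ (x * Subgroup.inclusion hVR v) = (l v : ℂ) * θ x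

variable {hVR : V ≤ R}

theorem Over.apply {l : V →* ℂˣ} {θ : R → ℂ} (h : Over hVR l θ) (v : V) :
    θ (Subgroup.inclusion hVR v) = (l v : ℂ) * θ 1 := by
  simpa using h v 1

theorem Over.hact [R.Normal] [V.Normal] {l : V →* ℂˣ} {θ : R → ℂ} (h : Over hVR l θ) (g : G) :
    Over hVR (dualAct V g l) (Palfy.hact g θ) := fun v x => by
  rw [hact_apply, hact_apply, map_mul, dualAct_apply]
  exact (congrArg θ (congrArg₂ (· * ·) rfl (Subtype.ext (by simp)))).trans (h _ _)

variable [Finite G] (hder : V.subgroupOf R = commutator R)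

include hder in
theorem inclusion_mem_commutator (v : V) : Subgroup.inclusion hVR v ∈ commutator R :=
  hder ▸ v.2

include hder in
theorem Over.mulLin {l : V →* ℂˣ} {θ : R → ℂ} (h : Over hVR l θ) (a : R →* ℂˣ) :
    Over hVR l (Palfy.mulLin a θ) := fun v x => by
  have ha : a (Subgroup.inclusion hVR v) = 1 :=
    Abelianization.commutator_subset_ker a (inclusion_mem_commutator hder v)
  simp only [Palfy.mulLin, h v x, map_mul, ha, mul_one]
  ring

theorem isIrr_hact [R.Normal] {θ : R → ℂ} (hθ : Cfsg.IsIrrCharacter R θ) (g : G) :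
    Cfsg.IsIrrCharacter R (hact g θ) := by
  rw [hact, Clifford.conjBy_eq_comp]
  exact isIrrCharacter_comp_surjective _ (MulEquiv.surjective _) hθ

theorem Over.unique {l l' : V →* ℂˣ} {θ : R → ℂ} (hθ : Cfsg.IsIrrCharacter R θ)
    (h : Over hVR l θ) (h' : Over hVR l' θ) : l = l' :=
  MonoidHom.ext fun v => Units.ext
    (mul_right_cancel₀ (irr_one_ne_zero hθ) ((h.apply v).symm.trans (h'.apply v)))

/-- Every irreducible character lies over some linear character. -/
theorem exists_over_self (hcen : ∀ v ∈ V, ∀ x ∈ R, x * v = v * x) {θ : R → ℂ}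
    (hθ : Cfsg.IsIrrCharacter R θ) : ∃ l : V →* ℂˣ, Over hVR l θ := by
  have hz : ∀ v : V, Subgroup.inclusion hVR v ∈ Subgroup.center R := fun v =>
    Subgroup.mem_center_iff.2 fun x => Subtype.ext (hcen v v.2 x x.2)
  choose c hc using fun v => Extraspecial.central_scalar hθ (hz v)
  have hc1 : ∀ v, c v * θ 1 = θ (Subgroup.inclusion hVR v) := fun v => by
    rw [← hc v 1, one_mul]
  let f : V →* ℂ :=
    { toFun := c
      map_one' := mul_right_cancel₀ (irr_one_ne_zero hθ) (by rw [hc1, map_one, one_mul])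
      map_mul' := fun a b => mul_right_cancel₀ (irr_one_ne_zero hθ) (by
        rw [hc1, map_mul, hc b, ← hc1 a]; ring) }
  exact ⟨f.toHomUnits, fun v x => hc v x⟩

include hder in
theorem over_one_linear {θ : R → ℂ} (hθ : Cfsg.IsIrrCharacter R θ) (h : Over hVR 1 θ) : θ 1 = 1 :=
  PrimeDegrees.linear_of_commutator_le hθ fun x hx => by
    have hxV : (x : G) ∈ V := by rw [← hder] at hx; exact hx
    have h1 := h.apply ⟨x, hxV⟩
    rw [MonoidHom.one_apply, Units.val_one, one_mul] at h1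
    exact h1

include hder in
theorem linear_over_one {l : V →* ℂˣ} {θ : R → ℂ} (hθ : Cfsg.IsIrrCharacter R θ)
    (h : Over hVR l θ) (h1 : θ 1 = 1) : l = 1 := by
  obtain ⟨f, hf⟩ := ExtendChar.exists_hom (isCharacter_of_isIrr hθ) h1
  refine MonoidHom.ext fun v => Units.ext ?_
  have h2 := h.apply v
  rw [h1, mul_one, ← hf, Abelianization.commutator_subset_ker f (inclusion_mem_commutator hder v)]
    at h2
  exact h2.symm.trans rfl

include hder in
theorem dvd_degree {r : ℕ} [Fact r.Prime] (hR : IsPGroup r R) {l : V →* ℂˣ} (hl : l ≠ 1)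
    {θ : R → ℂ} (hθ : Cfsg.IsIrrCharacter R θ) (h : Over hVR l θ) :
    r ∣ Cfsg.charDegree θ := by
  haveI := Fintype.ofFinite R
  obtain ⟨m, hm⟩ := hR.exists_card_eq
  obtain ⟨j, -, hj⟩ := (Nat.dvd_prime_pow Fact.out).1 (hm ▸ Degrees.charDegree_dvd_card ⟨θ, hθ⟩)
  rcases Nat.eq_zero_or_pos j with rfl | hj0
  · refine absurd (linear_over_one hder hθ h ?_) hl
    rw [show θ 1 = (Cfsg.charDegree θ : ℂ) from (Degrees.charDegree_cast ⟨θ, hθ⟩).symm]
    rw [show Cfsg.charDegree θ = 1 by simpa using hj, Nat.cast_one]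
  · exact hj ▸ dvd_pow_self r hj0.ne'

/-- Every linear character of the derived subgroup has a character over it. -/
theorem exists_over_lin [R.Normal] [V.Normal] (hcen : ∀ v ∈ V, ∀ x ∈ R, x * v = v * x)
    (l : V →* ℂˣ) : ∃ θ : R → ℂ, Cfsg.IsIrrCharacter R θ ∧ Over hVR l θ := by
  classical
  haveI := Fintype.ofFinite R
  haveI := Fintype.ofFinite (V.subgroupOf R)
  let e : V.subgroupOf R →* V := (Subgroup.subgroupOfEquivOfLe hVR).toMonoidHom
  obtain ⟨χ, hχ⟩ := DerivedLength.exists_over_constituent (V.subgroupOf R)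
    ⟨_, isIrrCharacter_linear (l.comp e)⟩
  obtain ⟨l', hl'⟩ := exists_over_self (hVR := hVR) hcen χ.2
  refine ⟨_, χ.2, ?_⟩
  suffices hll : l' = l by exact hll ▸ hl'
  by_contra hne
  apply hχ
  have heq : (fun n : V.subgroupOf R => (χ : R → ℂ) n) =
      (χ : R → ℂ) 1 • fun n : V.subgroupOf R => ((l'.comp e) n : ℂ) := funext fun n => by
    rw [Pi.smul_apply, smul_eq_mul, mul_comm]
    exact hl'.apply (e n)
  show Cfsg.classInner _ (fun n : V.subgroupOf R => ((l.comp e) n : ℂ)) = 0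
  rw [heq, classInner_smul_left]
  refine mul_eq_zero_of_right _ ((classInner_irr (⟨_, isIrrCharacter_linear (l'.comp e)⟩ :
    Cfsg.IrrCharacter _) ⟨_, isIrrCharacter_linear (l.comp e)⟩).trans (if_neg fun hh => hne ?_))
  refine MonoidHom.ext fun v => Units.ext ?_
  have h2 := congrFun (congrArg Subtype.val hh) ((Subgroup.subgroupOfEquivOfLe hVR).symm v)
  simpa [e] using h2

/-- Linear characters separate the cosets of the derived subgroup. -/
theorem exists_hom_ne_one {Y : Type u} [Group Y] [Finite Y] {z : Y} (hz : z ∉ commutator Y) :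
    ∃ a : Y →* ℂˣ, a z ≠ 1 := by
  haveI : NeZero (Monoid.exponent (Abelianization Y)) := ⟨Monoid.exponent_ne_zero_of_finite⟩
  obtain ⟨a, ha⟩ := CommGroup.exists_apply_ne_one_of_hasEnoughRootsOfUnity (Abelianization Y) ℂ
    (a := Abelianization.of z) fun h => hz ((QuotientGroup.eq_one_iff z).1 h)
  exact ⟨a.comp Abelianization.of, ha⟩

include hder in
/-- The characters over `l` differ by linear characters. -/
theorem over_transitive {l : V →* ℂˣ} {θ θ' : R → ℂ} (hθ : Cfsg.IsIrrCharacter R θ)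
    (hθ' : Cfsg.IsIrrCharacter R θ') (h : Over hVR l θ) (h' : Over hVR l θ') :
    ∃ a : R →* ℂˣ, θ' = mulLin a θ := by
  classical
  haveI := Fintype.ofFinite R
  haveI := finite_dual R
  haveI := Fintype.ofFinite (R →* ℂˣ)
  by_contra hcon
  push Not at hcon
  have h0 : ∀ a : R →* ℂˣ, ∑ x : R, (a x : ℂ) * θ x * conj (θ' x) = 0 := fun a => by
    have h1 := classInner_irr (⟨_, isIrrCharacter_mul_linear hθ a⟩ : Cfsg.IrrCharacter R) ⟨θ', hθ'⟩
    rw [if_neg fun e => hcon a (congrArg Subtype.val e).symm, classInner_def, mul_eq_zero] at h1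
    rcases h1 with h1 | h1
    · exact absurd h1 (inv_ne_zero (Nat.cast_ne_zero.2 Nat.card_pos.ne'))
    · exact h1
  have h1 : ∑ a : R →* ℂˣ, ∑ x : R, (a x : ℂ) * θ x * conj (θ' x) = 0 :=
    Finset.sum_eq_zero fun a _ => h0 a
  rw [Finset.sum_comm] at h1
  have h2 : ∀ x : R, ∑ a : R →* ℂˣ, (a x : ℂ) * θ x * conj (θ' x) =
      if x ∈ commutator R then (Fintype.card (R →* ℂˣ) : ℂ) * (θ 1 * conj (θ' 1)) else 0 := by
    intro x
    rw [Finset.sum_congr rfl fun a _ => mul_assoc _ _ _, ← Finset.sum_mul]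
    split_ifs with hx
    · have hxV : (x : G) ∈ V := by rw [← hder] at hx; exact hx
      rw [Finset.sum_congr rfl fun a _ => by rw [Abelianization.commutator_subset_ker a hx],
        show θ x = (l ⟨x, hxV⟩ : ℂ) * θ 1 from h.apply ⟨x, hxV⟩,
        show θ' x = (l ⟨x, hxV⟩ : ℂ) * θ' 1 from h'.apply ⟨x, hxV⟩, map_mul]
      have hn : (l ⟨x, hxV⟩ : ℂ) * conj (l ⟨x, hxV⟩ : ℂ) = 1 := by
        rw [Complex.mul_conj']
        rw [Complex.norm_eq_one_of_pow_eq_one (n := Nat.card V) (by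
          rw [← Units.val_pow_eq_pow_val, ← map_pow, pow_card_eq_one', map_one, Units.val_one])
          Nat.card_pos.ne']
        simp
      simp only [Units.val_one, Finset.sum_const, Finset.card_univ, nsmul_eq_mul, mul_one]
      rw [mul_mul_mul_comm, hn, one_mul]
    · obtain ⟨b, hb⟩ := exists_hom_ne_one hx
      refine mul_eq_zero_of_left ?_ _
      have h3 : (b x : ℂ) * ∑ a : R →* ℂˣ, (a x : ℂ) = ∑ a : R →* ℂˣ, (a x : ℂ) := by
        rw [Finset.mul_sum]
        exact Fintype.sum_equiv (Equiv.mulLeft b) _ _ fun a => by simp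
      exact (mul_left_eq_self₀.1 h3).resolve_left fun e => hb (Units.ext e)
  rw [Finset.sum_congr rfl fun x _ => h2 x, ← Finset.sum_filter, Finset.sum_const,
    nsmul_eq_mul] at h1
  refine mul_ne_zero (Nat.cast_ne_zero.2 (Finset.card_ne_zero.2
    ⟨1, Finset.mem_filter.2 ⟨Finset.mem_univ _, Subgroup.one_mem _⟩⟩)) (mul_ne_zero
    (Nat.cast_ne_zero.2 Fintype.card_ne_zero) (mul_ne_zero (irr_one_ne_zero hθ) ?_)) h1
  exact fun e => irr_one_ne_zero hθ' ((map_eq_zero _).1 e)

theorem isPGroup_dual {r : ℕ} (hR : IsPGroup r R) : IsPGroup r (R →* ℂˣ) := by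
  intro a
  obtain ⟨m, hm⟩ : ∃ m, Monoid.exponent R ∣ r ^ m := by
    rcases eq_or_ne r 0 with rfl | hr
    · exact ⟨1, by simp⟩
    choose k hk using hR
    haveI := Fintype.ofFinite R
    exact ⟨∑ x : R, k x, Monoid.exponent_dvd_of_forall_pow_eq_one fun x => by
      obtain ⟨c, hc⟩ := pow_dvd_pow r (Finset.single_le_sum (f := k) (fun _ _ => Nat.zero_le _)
        (Finset.mem_univ x))
      rw [hc, pow_mul, hk, one_pow]⟩
  refine ⟨m, MonoidHom.ext fun x => ?_⟩
  rw [MonoidHom.pow_apply, ← map_pow, Monoid.exponent_dvd_iff_forall_pow_eq_one.1 hm x, map_one,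
    MonoidHom.one_apply]

include hder in
/-- A coprime group fixing `l` fixes a character over `l`. -/
theorem exists_fixed [R.Normal] [V.Normal] (hcen : ∀ v ∈ V, ∀ x ∈ R, x * v = v * x) {r : ℕ}
    [Fact r.Prime] (hR : IsPGroup r R) (K : Subgroup G) (hK : ¬ r ∣ Nat.card K) (l : V →* ℂˣ)
    (hl : ∀ g ∈ K, dualAct V g l = l) :
    ∃ θ : R → ℂ, Cfsg.IsIrrCharacter R θ ∧ Over hVR l θ ∧ ∀ g ∈ K, hact g θ = θ := by
  classical
  haveI := finite_dual R
  haveI := Fintype.ofFinite K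
  obtain ⟨θ0, hθ0, hov⟩ := exists_over_lin (hVR := hVR) hcen l
  have hcex : ∀ k : K, ∃ a : R →* ℂˣ, hact (k : G) θ0 = mulLin a θ0 := fun k =>
    over_transitive hder hθ0 (isIrr_hact hθ0 _) hov (by simpa [hl k k.2] using hov.hact (k : G))
  choose c hc using hcex
  let A0 : Subgroup (R →* ℂˣ) :=
    { carrier := {a | mulLin a θ0 = θ0}
      one_mem' := mulLin_one θ0
      mul_mem' := fun {a b} (ha : mulLin a θ0 = θ0) (hb : mulLin b θ0 = θ0) => by
        show mulLin (a * b) θ0 = θ0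
        rw [← mulLin_mulLin, hb, ha]
      inv_mem' := fun {a} (ha : mulLin a θ0 = θ0) => by
        show mulLin a⁻¹ θ0 = θ0
        conv_lhs => rw [← ha, mulLin_inv] }
  haveI : A0.Normal := ⟨fun a ha g => by
    rwa [show g * a * g⁻¹ = a from MonoidHom.ext fun x => by simp [mul_comm (g x)]]⟩
  have hmk : ∀ a b : R →* ℂˣ,
      (a : (R →* ℂˣ) ⧸ A0) = b ↔ mulLin a θ0 = mulLin b θ0 := fun a b => by
    rw [QuotientGroup.eq]
    show mulLin (a⁻¹ * b) θ0 = θ0 ↔ _
    rw [← mulLin_mulLin]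
    constructor
    · intro h
      conv_lhs => rw [← h, mulLin_self_inv]
    · intro h
      rw [← h, mulLin_inv]
  have hstep : ∀ (k : K) (a : R →* ℂˣ),
      hact (k : G) (mulLin a θ0) = mulLin (dualAct R (k : G) a * c k) θ0 := fun k a => by
    rw [hact_mulLin, hc, mulLin_mulLin]
  have hcongr : ∀ (k : K) (a b : R →* ℂˣ), (a : (R →* ℂˣ) ⧸ A0) = b →
      (dualAct R (k : G) a : (R →* ℂˣ) ⧸ A0) = dualAct R (k : G) b := fun k a b hab => by
    rw [hmk] at hab ⊢
    exact mulLin_cancel (c k) (by rw [← hstep, ← hstep, hab])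
  have hcoc : ∀ h k : K, (c (h * k) : (R →* ℂˣ) ⧸ A0) =
      (dualAct R (h : G) (c k) : (R →* ℂˣ) ⧸ A0) * c h := fun h k => by
    rw [← QuotientGroup.mk_mul, hmk, ← hc, ← hstep, ← hc, hact_hact, Subgroup.coe_mul]
  set γ := ∏ k : K, c k with hγ
  have hhγ : ∀ h : K, (dualAct R (h : G) γ : (R →* ℂˣ) ⧸ A0) * (c h : (R →* ℂˣ) ⧸ A0) ^ Fintype.card K
      = γ := fun h => by
    have e1 : (γ : (R →* ℂˣ) ⧸ A0) = ∏ k : K, (c (h * k) : (R →* ℂˣ) ⧸ A0) := by
      rw [hγ, ← QuotientGroup.mk'_apply, map_prod]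
      exact (Fintype.prod_equiv (Equiv.mulLeft h) _ _ fun k => rfl).symm
    rw [e1, hγ, map_prod, ← QuotientGroup.mk'_apply, map_prod]
    simp only [hcoc, QuotientGroup.mk'_apply, Finset.prod_mul_distrib, Finset.prod_const,
      Finset.card_univ]
  have hcop : (Nat.card ((R →* ℂˣ) ⧸ A0)).Coprime (Fintype.card K) := by
    obtain ⟨m, hm⟩ := IsPGroup.exists_card_eq ((isPGroup_dual hR).to_quotient A0)
    rw [hm, ← Nat.card_eq_fintype_card]
    exact Nat.Coprime.pow_left m ((Nat.Prime.coprime_iff_not_dvd Fact.out).2 hK)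
  obtain ⟨d, hd⟩ := QuotientGroup.mk_surjective ((powCoprime hcop).symm (γ : (R →* ℂˣ) ⧸ A0))
  have hdn : (d : (R →* ℂˣ) ⧸ A0) ^ Fintype.card K = γ := by
    rw [hd]; exact (powCoprime hcop).apply_symm_apply _
  refine ⟨mulLin d θ0, isIrrCharacter_mul_linear hθ0 d, hov.mulLin hder d, fun g hg => ?_⟩
  rw [show g = ((⟨g, hg⟩ : K) : G) from rfl, hstep, ← hmk]
  refine (powCoprime hcop).injective ?_
  show (((dualAct R g d * c ⟨g, hg⟩ : R →* ℂˣ)) : (R →* ℂˣ) ⧸ A0) ^ Fintype.card K =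
    (d : (R →* ℂˣ) ⧸ A0) ^ Fintype.card K
  rw [QuotientGroup.mk_mul, mul_pow, hdn, ← QuotientGroup.mk_pow, ← map_pow]
  have h4 := hcongr ⟨g, hg⟩ (d ^ Fintype.card K) γ (by rw [QuotientGroup.mk_pow, hdn])
  rw [show (dualAct R g (d ^ Fintype.card K) : (R →* ℂˣ) ⧸ A0) = dualAct R g γ from h4]
  exact hhγ ⟨g, hg⟩

/-- Degrees above an invariant character of a normal Sylow subgroup. -/
theorem over_degrees [R.Normal] {H : Subgroup G} (hc : Subgroup.IsComplement' R H) {r : ℕ}
    [Fact r.Prime] (hR : IsPGroup r R) (hRi : ¬ r ∣ R.index) {θ : R → ℂ}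
    (hθ : Cfsg.IsIrrCharacter R θ) {K : Subgroup H} (hK : ∀ h : H, h ∈ K ↔ hact (h : G) θ = θ)
    {d : ℕ} (hd : d ∈ Cfsg.charDegrees K) :
    K.index * (Cfsg.charDegree θ * d) ∈ Cfsg.charDegrees G := by
  set T := ItoPSolvable.inertia R θ with hT
  have hRT : R ≤ T := fun x hx => funext fun y => by
    rw [Clifford.conjBy_apply]
    exact irr_isClassFunction ⟨θ, hθ⟩ y ⟨x, hx⟩
  obtain rfl : K = T.subgroupOf H := Subgroup.ext fun h => by
    rw [hK, hact_eq_iff, Subgroup.mem_subgroupOf]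
  let ε : R.subgroupOf T ≃* R := Subgroup.subgroupOfEquivOfLe hRT
  have hN : IsPGroup r (R.subgroupOf T) := hR.of_equiv ε.symm
  have hidx : ¬ r ∣ (R.subgroupOf T).index := fun h =>
    hRi (h.trans (Subgroup.relIndex_dvd_index_of_normal R T))
  have hθ' : Cfsg.IsIrrCharacter (R.subgroupOf T) (θ ∘ ε) :=
    isIrrCharacter_comp_surjective ε.toMonoidHom ε.surjective hθ
  obtain ⟨e, he, heN, -⟩ := NormalSylow.exists_canonical_extension (R.subgroupOf T) hN hidx hθ'
    fun g => funext fun y => by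
      rw [Clifford.conjBy_apply]
      exact (congrArg θ (Subtype.ext rfl)).trans (congrFun g.2 (ε y))
  refine degree_mem_complement hc hRT hθ (fun g => Iff.rfl) e he (fun n => ?_) hd
  exact heN (⟨⟨n, hRT n.2⟩, n.2⟩ : R.subgroupOf T)

end Cfsg.Agent.BlocksChars.Palfy
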