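import Cfsg.Agent.BlocksChars.Palfy.Over
import Cfsg.Agent.BlocksChars.Palfy.Module
import Cfsg.Agent.BlocksChars.Palfy.Norm

/-!
# The case of a minimal normal subgroup in the derived subgroup of a normal Sylow subgroup
-/

set_option autoImplicit false
set_option linter.style.haveILetI false
set_option linter.unusedSectionVars false
set_option maxHeartbeats 1000000

namespace Cfsg.Agent.BlocksChars.Palfy

open Cfsg.Agent.Characters Cfsg.Agent.CharTheory Cfsg.Agent.BlocksChars
open scoped BigOperators ComplexConjugate IsMulCommutative commutatorElement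

universe u

variable {G : Type u} [Group G] [Finite G]

/-- The hypotheses. -/
structure RData (r : ℕ) (R V H : Subgroup G) : Prop where
  hVR : V ≤ R
  hder : V.subgroupOf R = commutator R
  hcen : ∀ v ∈ V, ∀ x ∈ R, x * v = v * x
  hR : IsPGroup r R
  hexp : ∀ v ∈ V, v ^ r = 1
  hne : V ≠ ⊥
  compl : Subgroup.IsComplement' R H
  hH : ¬ r ∣ Nat.card H

section Comm

variable {R V : Subgroup G}

/-- The linear characters fixing `θ`. -/
def fixLin (θ : R → ℂ) : Subgroup (R →* ℂˣ) where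
  carrier := {a | mulLin a θ = θ}
  one_mem' := mulLin_one θ
  mul_mem' := fun {a b} (ha : mulLin a θ = θ) (hb : mulLin b θ = θ) => by
    show mulLin (a * b) θ = θ
    rw [← mulLin_mulLin, hb, ha]
  inv_mem' := fun {a} (ha : mulLin a θ = θ) => by
    show mulLin a⁻¹ θ = θ
    conv_lhs => rw [← ha, mulLin_inv]

theorem mem_fixLin_div {θ : R → ℂ} {a b : R →* ℂˣ} (h : mulLin a θ = mulLin b θ) :
    a / b ∈ fixLin θ := funext fun x => by
  have h1 : (a x : ℂ) * θ x = (b x : ℂ) * θ x := congrFun h x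
  simp only [mulLin, MonoidHom.div_apply, div_eq_mul_inv, Units.val_mul, Units.val_inv_eq_inv_val]
  rw [mul_comm (a x : ℂ), mul_assoc, h1, inv_mul_cancel_left₀ (b x).ne_zero]

variable (hVR : V ≤ R) (hder : V.subgroupOf R = commutator R)
  (hcen : ∀ v ∈ V, ∀ x ∈ R, x * v = v * x)

/-- Commutation with an element, into the central derived subgroup. -/
def commHom (x : R) : R →* V where
  toFun y := ⟨⁅(x : G), (y : G)⁆, by
    have h : ⁅x, y⁆ ∈ V.subgroupOf R := hder ▸
      Subgroup.commutator_mem_commutator (Subgroup.mem_top x) (Subgroup.mem_top y)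
    exact h⟩
  map_one' := Subtype.ext (by simp)
  map_mul' a b := Subtype.ext (by
    have h : ⁅x, b⁆ ∈ V.subgroupOf R := hder ▸
      Subgroup.commutator_mem_commutator (Subgroup.mem_top x) (Subgroup.mem_top b)
    have h2 : (a : G) * ⁅(x : G), (b : G)⁆ = ⁅(x : G), (b : G)⁆ * a := hcen _ h _ a.2
    show ⁅(x : G), (a : G) * b⁆ = ⁅(x : G), (a : G)⁆ * ⁅(x : G), (b : G)⁆
    calc ⁅(x : G), (a : G) * b⁆ = ⁅(x : G), (a : G)⁆ * ((a : G) * ⁅(x : G), (b : G)⁆) * (a : G)⁻¹ := by
          simp only [commutatorElement_def]; group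
      _ = _ := by rw [h2, mul_assoc, mul_inv_cancel_right])

theorem commHom_coe (x y : R) :
    ((commHom hder hcen x y : V) : G) = ⁅(x : G), (y : G)⁆ := rfl

include hVR in
theorem commHom_mul (a b y : R) :
    commHom hder hcen (a * b) y = commHom hder hcen a y * commHom hder hcen b y := by
  refine Subtype.ext ?_
  have h2 : (a : G) * ⁅(b : G), (y : G)⁆ = ⁅(b : G), (y : G)⁆ * a :=
    hcen _ (commHom hder hcen b y).2 _ a.2
  have h3 := hcen _ (commHom hder hcen a y).2 _ (hVR (commHom hder hcen b y).2)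
  simp only [commHom_coe] at h2 h3
  show ⁅(a : G) * b, (y : G)⁆ = ⁅(a : G), (y : G)⁆ * ⁅(b : G), (y : G)⁆
  calc ⁅(a : G) * b, (y : G)⁆ = (a : G) * ⁅(b : G), (y : G)⁆ * (a : G)⁻¹ * ⁅(a : G), (y : G)⁆ := by
        simp only [commutatorElement_def]; group
    _ = _ := by rw [h2, mul_inv_cancel_right, h3]

include hVR in
theorem commHom_inv (a y : R) :
    commHom hder hcen a⁻¹ y = (commHom hder hcen a y)⁻¹ := by
  refine eq_inv_of_mul_eq_one_left ?_
  rw [← commHom_mul hVR, inv_mul_cancel]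
  exact Subtype.ext (by simp [commHom_coe])

include hVR in
/-- The commutator map is onto at an element where every non-linear character vanishes. -/
theorem commHom_surjective {x : R}
    (h0 : ∀ θ : R → ℂ, Cfsg.IsIrrCharacter R θ → θ 1 ≠ 1 → θ x = 0) :
    Function.Surjective (commHom hder hcen x) := by
  classical
  haveI := Fintype.ofFinite R
  haveI := finite_dual R
  haveI := Fintype.ofFinite (R →* ℂˣ)
  haveI := Fintype.ofFinite (Cfsg.IrrCharacter R)
  have hs := second_orthogonality (G := R) x x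
  rw [if_pos (IsConj.refl x)] at hs
  let e : (R →* ℂˣ) → Cfsg.IrrCharacter R := fun a => ⟨_, isIrrCharacter_linear a⟩
  have he : Function.Injective e := fun a b h =>
    MonoidHom.ext fun y => Units.ext (congrFun (congrArg Subtype.val h) y)
  rw [← Fintype.sum_of_injective e he (fun _ => (1 : ℂ)) _ (fun θ hθ => ?_) (fun a => ?_),
    Finset.sum_const, Finset.card_univ, nsmul_one, Nat.cast_inj, ← Nat.card_eq_fintype_card] at hs
  rotate_left
  · rw [h0 θ θ.2 fun h1 => hθ ?_, zero_mul]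
    obtain ⟨f, hf⟩ := ExtendChar.exists_hom (isCharacter_of_isIrr θ.2) h1
    exact ⟨f, Subtype.ext (funext hf)⟩
  · rw [Complex.mul_conj', Complex.norm_eq_one_of_pow_eq_one (n := Nat.card R) (by
      show ((a x : ℂ)) ^ Nat.card R = 1
      rw [← Units.val_pow_eq_pow_val, ← map_pow, pow_card_eq_one', map_one, Units.val_one])
      Nat.card_pos.ne']
    simp
  set f := commHom hder hcen x
  have hker : f.ker = Subgroup.centralizer ({x} : Set R) := by
    ext y
    rw [MonoidHom.mem_ker, Subgroup.mem_centralizer_singleton_iff]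
    constructor
    · intro h
      have h1 : ⁅(x : G), (y : G)⁆ = 1 := congrArg Subtype.val h
      exact Subtype.ext (commutatorElement_eq_one_iff_mul_comm.1 h1).symm
    · intro h
      exact Subtype.ext (commutatorElement_eq_one_iff_mul_comm.2 (congrArg Subtype.val h).symm)
  have h1 := f.ker.index_mul_card
  rw [Subgroup.index_ker, hker, ← hs, card_linear_hom] at h1
  have h2 := (commutator R).index_mul_card
  rw [← h1, mul_comm (Nat.card f.range)] at h2
  have h3 := Nat.eq_of_mul_eq_mul_left (Nat.pos_of_ne_zero Subgroup.index_ne_zero_of_finite) h2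
  rw [← hder, Nat.card_congr (Subgroup.subgroupOfEquivOfLe hVR).toEquiv] at h3
  rw [← MonoidHom.range_eq_top]
  exact Subgroup.eq_top_of_card_eq _ h3.symm

end Comm

variable {r : ℕ} [Fact r.Prime] {R V H : Subgroup G} [R.Normal] [V.Normal]
  (D : RData r R V H)
include D

theorem RData.index_eq : H.index = Nat.card R := D.compl.index_eq_card

theorem RData.not_dvd_index : ¬ r ∣ R.index := D.compl.symm.index_eq_card ▸ D.hH

theorem RData.not_dvd_cardR {p : ℕ} (hp : p.Prime) (hpr : p ≠ r) : ¬ p ∣ Nat.card R := by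
  obtain ⟨m, hm⟩ := D.hR.exists_card_eq
  rw [hm]
  exact fun h => hpr ((Nat.prime_dvd_prime_iff_eq hp Fact.out).1 (hp.dvd_of_dvd_pow h))

theorem RData.nontrivialX : Nontrivial (V →* ℂˣ) := by
  haveI : IsMulCommutative V :=
    ⟨⟨fun a b => Subtype.ext (D.hcen b b.2 a (D.hVR a.2))⟩⟩
  haveI := finite_dual V
  refine (Finite.one_lt_card_iff_nontrivial).1 ?_
  rw [card_dual]
  exact (Subgroup.one_lt_card_iff_ne_bot V).2 D.hne

theorem RData.isPGroupX : IsPGroup r (V →* ℂˣ) := fun l => ⟨1, by rw [pow_one, dual_pow D.hexp]⟩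

/-- The stabilisers on `V →* ℂˣ`. -/
theorem RData.stab_ok [Group.IsSolvable G] {p : ℕ} (hne : NoEdge G r p) (l : V →* ℂˣ)
    (hl : l ≠ 1) :
    ¬ p ∣ (stabSub (X := V →* ℂˣ) ((dualAct V).comp H.subtype) l).index ∧
      ItoPSolvable.PPrimeDegrees (stabSub (X := V →* ℂˣ) ((dualAct V).comp H.subtype) l) p := by
  set K := stabSub (X := V →* ℂˣ) ((dualAct V).comp H.subtype) l with hK
  obtain ⟨θ, hθ, hov, hfix⟩ := exists_fixed D.hder (hVR := D.hVR) D.hcen D.hR (K.map H.subtype)
    (fun h => D.hH (h.trans (Subgroup.card_dvd_of_le (Subgroup.map_subtype_le K)))) l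
    (by rintro _ ⟨h, hh, rfl⟩; exact hh)
  have hKmem : ∀ h : H, h ∈ K ↔ hact (h : G) θ = θ := fun h =>
    ⟨fun hh => hfix _ ⟨h, hh, rfl⟩, fun hh => Over.unique hθ (hh ▸ hov.hact (h : G)) hov⟩
  have hdeg : ∀ d ∈ Cfsg.charDegrees K, ¬ p ∣ K.index * (Cfsg.charDegree θ * d) := fun d hd =>
    hne _ (over_degrees D.compl D.hR D.not_dvd_index hθ hKmem hd)
      (dvd_mul_of_dvd_right (dvd_mul_of_dvd_left (dvd_degree D.hder D.hR hl hθ hov) _) _)
  refine ⟨fun h => hdeg _ ⟨⟨_, isIrrCharacter_linear 1⟩, rfl⟩ (dvd_mul_of_dvd_left h _),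
    fun χ h => hdeg _ ⟨χ, rfl⟩ (dvd_mul_of_dvd_right (dvd_mul_of_dvd_right h _) _)⟩

theorem RData.cover [Group.IsSolvable G] {p : ℕ} [Fact p.Prime] (hne : NoEdge G r p) :
    Cover (X := V →* ℂˣ) p ((dualAct V).comp H.subtype) :=
  cover_of_stab (D.stab_ok hne)

/-- A normal Sylow subgroup fixes every character over a non-trivial `l`. -/
theorem RData.fix_over [Group.IsSolvable G] {p : ℕ} [Fact p.Prime] (hne : NoEdge G r p)
    (P : Sylow p H) [(P : Subgroup H).Normal] {l : V →* ℂˣ} (hl : l ≠ 1) {θ : R → ℂ}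
    (hθ : Cfsg.IsIrrCharacter R θ) (hov : Over D.hVR l θ) {h : H} (hh : h ∈ P) :
    hact (h : G) θ = θ := by
  set K := (ItoPSolvable.inertia R θ).subgroupOf H with hK
  have hidx : ¬ p ∣ K.index := fun hd =>
    hne _ (over_degrees D.compl D.hR D.not_dvd_index hθ (K := K)
      (fun k => (hact_eq_iff (k : G) θ).symm) ⟨⟨_, isIrrCharacter_linear 1⟩, rfl⟩)
      (dvd_mul_of_dvd_right (dvd_mul_of_dvd_left (dvd_degree D.hder D.hR hl hθ hov) _) _)
      (dvd_mul_of_dvd_left hd _)
  obtain ⟨Q, hQ⟩ := exists_sylow_le K hidx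
  haveI := Sylow.unique_of_normal P inferInstance
  obtain rfl : Q = P := Subsingleton.elim _ _
  exact (hact_eq_iff (h : G) θ).2 (hQ hh)

theorem RData.fix_lin [Group.IsSolvable G] {p : ℕ} [Fact p.Prime] (hne : NoEdge G r p)
    (P : Sylow p H) [(P : Subgroup H).Normal] {h : H} (hh : h ∈ P) (l : V →* ℂˣ) :
    dualAct V (h : G) l = l :=
  DFunLike.congr_fun ((D.cover hne).normal_pGroup_trivial P.2 hh) l

theorem RData.centralizes [Group.IsSolvable G] {p : ℕ} [Fact p.Prime] (hne : NoEdge G r p)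
    (P : Sylow p H) [(P : Subgroup H).Normal] {h : H} (hh : h ∈ P) {v : G} (hv : v ∈ V) :
    (h : G) * v * (h : G)⁻¹ = v := by
  haveI : IsMulCommutative V :=
    ⟨⟨fun a b => Subtype.ext (D.hcen b b.2 a (D.hVR a.2))⟩⟩
  have := Subgroup.mem_centralizer_iff.1 (centralizes_of_dual V (g := (h : G))
    fun l => D.fix_lin hne P hh l) v hv
  rw [← this, mul_inv_cancel_right]

/-- A normal Sylow subgroup moves some linear character of `R`. -/
theorem RData.exists_moved [Group.IsSolvable G] {p : ℕ} [hp : Fact p.Prime] (hpr : p ≠ r)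
    (hne : NoEdge G r p) (hdiv : ∃ d ∈ Cfsg.charDegrees G, p ∣ d) (P : Sylow p H)
    [(P : Subgroup H).Normal] : ∃ h ∈ P, ∃ a : R →* ℂˣ, dualAct R (h : G) a ≠ a := by
  by_contra hcon
  push Not at hcon
  have hcomm : ∀ h ∈ P, ∀ x ∈ R, ((h : H) : G) * x = x * ((h : H) : G) := by
    intro h hh x hx
    set c : G := x⁻¹ * ((h : G) * x * (h : G)⁻¹) with hc
    have hcR : c ∈ R :=
      R.mul_mem (R.inv_mem hx) ((inferInstance : R.Normal).conj_mem x hx _)
    have hcV : c ∈ V := by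
      have hmem : (⟨c, hcR⟩ : R) ∈ V.subgroupOf R := by
        rw [D.hder]
        by_contra hn
        obtain ⟨a, ha⟩ := exists_hom_ne_one hn
        apply ha
        have he : (⟨c, hcR⟩ : R) = ⟨x, hx⟩⁻¹ * MulAut.conjNormal (h : G) ⟨x, hx⟩ :=
          Subtype.ext (by simp [hc])
        rw [he, map_mul, map_inv, (dualAct_eq_iff R _ a).1 (hcon h hh a), inv_mul_cancel]
      exact hmem
    have hxc : (h : G) * x * (h : G)⁻¹ = x * c := by rw [hc]; group
    have hstep : ∀ k : ℕ, (h : G) ^ k * x * ((h : G) ^ k)⁻¹ = x * c ^ k := by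
      intro k
      induction k with
      | zero => simp
      | succ k ih =>
        calc (h : G) ^ (k + 1) * x * ((h : G) ^ (k + 1))⁻¹
            = (h : G) * ((h : G) ^ k * x * ((h : G) ^ k)⁻¹) * (h : G)⁻¹ := by
              rw [pow_succ']; group
          _ = ((h : G) * x * (h : G)⁻¹) * ((h : G) * c ^ k * (h : G)⁻¹) := by rw [ih]; group
          _ = x * c ^ (k + 1) := by
            rw [D.centralizes hne P hh (V.pow_mem hcV k), hxc, pow_succ', mul_assoc]
    have h1 : c ^ orderOf h = 1 := by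
      have h2 := hstep (orderOf h)
      rw [← SubmonoidClass.coe_pow, pow_orderOf_eq_one] at h2
      simpa using h2.symm
    have h3 : c = 1 := by
      rw [← orderOf_eq_one_iff]
      refine Nat.eq_one_of_dvd_coprimes ?_ (orderOf_dvd_of_pow_eq_one h1)
        (orderOf_dvd_of_pow_eq_one (D.hexp c hcV))
      exact ((Fact.out : r.Prime).coprime_iff_not_dvd.2
        fun hd => D.hH (hd.trans (orderOf_dvd_natCard h))).symm
    rw [hc, inv_mul_eq_one] at h3
    exact (mul_inv_eq_iff_eq_mul.1 h3.symm)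
  have hPc : IsMulCommutative P := by
    haveI := D.nontrivialX
    exact abelian_of_stab (X := V →* ℂˣ) (φ := (dualAct V).comp H.subtype) (D.stab_ok hne) P
  haveI : ((P : Subgroup H).map H.subtype).Normal := by
    refine ⟨?_⟩
    rintro _ ⟨h, hh, rfl⟩ g
    obtain ⟨⟨⟨x, hx⟩, ⟨k, hk⟩⟩, rfl⟩ := D.compl.surjective g
    refine ⟨⟨k, hk⟩ * h * ⟨k, hk⟩⁻¹,
      (inferInstance : (P : Subgroup H).Normal).conj_mem h hh _, ?_⟩
    have h4 := hcomm _ ((inferInstance : (P : Subgroup H).Normal).conj_mem h hh ⟨k, hk⟩) x hx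
    simp only [Subgroup.coe_mul, Subgroup.coe_inv] at h4
    show k * (h : G) * k⁻¹ = x * k * (h : G) * (x * k)⁻¹
    rw [mul_inv_rev, show x * k * (h : G) * (k⁻¹ * x⁻¹) = x * (k * (h : G) * k⁻¹) * x⁻¹ by group,
      ← h4, mul_inv_cancel_right]
  obtain ⟨d, hd, hpd⟩ := hdiv
  refine not_divides_of_normal_abelian ((P : Subgroup H).map H.subtype) ?_ ?_ d hd hpd
  · refine ⟨⟨?_⟩⟩
    rintro ⟨_, a, ha, rfl⟩ ⟨_, b, hb, rfl⟩
    exact Subtype.ext (congrArg (fun z : P => ((z.1 : H) : G))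
      (hPc.is_comm.comm ⟨a, ha⟩ ⟨b, hb⟩))
  · rw [Subgroup.index_map_subtype, D.index_eq, hp.out.dvd_mul]
    exact fun h => h.elim P.not_dvd_index (D.not_dvd_cardR hp.out hpr)

/-- Degrees above linear characters of `R`. -/
theorem RData.lin_degree (a : R →* ℂˣ) {d : ℕ}
    (hd : d ∈ Cfsg.charDegrees (stabSub (X := R →* ℂˣ) ((dualAct R).comp H.subtype) a)) :
    (stabSub (X := R →* ℂˣ) ((dualAct R).comp H.subtype) a).index * d ∈ Cfsg.charDegrees G := by
  have h := over_degrees D.compl D.hR D.not_dvd_index (isIrrCharacter_linear a)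
    (K := stabSub (X := R →* ℂˣ) ((dualAct R).comp H.subtype) a) (fun h => ?_) hd
  · rwa [charDegree_linear, one_mul] at h
  · constructor
    · intro hh
      funext x
      rw [hact_apply, ← dualAct_apply]
      exact congrArg (fun z : R →* ℂˣ => (z x : ℂ)) hh
    · intro hh
      refine MonoidHom.ext fun x => Units.ext ?_
      have := congrFun hh x
      rw [hact_apply, ← dualAct_apply] at this
      exact this

theorem RData.moved_dvd {p : ℕ} [Fact p.Prime] (P : Sylow p H) [(P : Subgroup H).Normal]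
    {a : R →* ℂˣ} {h : H} (hh : h ∈ P) (hm : dualAct R (h : G) a ≠ a) :
    p ∣ (stabSub (X := R →* ℂˣ) ((dualAct R).comp H.subtype) a).index := by
  by_contra hd
  obtain ⟨Q, hQ⟩ := exists_sylow_le _ hd
  haveI := Sylow.unique_of_normal P inferInstance
  obtain rfl : Q = P := Subsingleton.elim _ _
  exact hm (hQ hh)

theorem RData.not_both_normal [Group.IsSolvable G] {p q : ℕ} [Fact p.Prime] [Fact q.Prime]
    (hpr : p ≠ r) (hqr : q ≠ r) (hnp : NoEdge G r p) (hnq : NoEdge G r q) (hpq : NoEdge G p q)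
    (hdp : ∃ d ∈ Cfsg.charDegrees G, p ∣ d) (hdq : ∃ d ∈ Cfsg.charDegrees G, q ∣ d)
    (P : Sylow p H) [(P : Subgroup H).Normal] (Q : Sylow q H) [(Q : Subgroup H).Normal] :
    False := by
  obtain ⟨x, hx, a, ha⟩ := D.exists_moved hpr hnp hdp P
  obtain ⟨y, hy, b, hb⟩ := D.exists_moved hqr hnq hdq Q
  have hboth : ∀ c : R →* ℂˣ, (∃ g ∈ P, dualAct R (g : G) c ≠ c) →
      ∀ g ∈ Q, dualAct R (g : G) c = c := by
    rintro c ⟨g, hg, hgc⟩ k hk
    by_contra hkc
    have h := D.lin_degree c (d := 1) ⟨⟨_, isIrrCharacter_linear 1⟩, charDegree_linear 1⟩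
    exact hpq _ h (dvd_mul_of_dvd_left (D.moved_dvd P hg hgc) _)
      (dvd_mul_of_dvd_left (D.moved_dvd Q hk hkc) _)
  have hbP : ∀ g ∈ P, dualAct R (g : G) b = b := fun g hg => by
    by_contra hgb
    exact hb (hboth b ⟨g, hg, hgb⟩ y hy)
  refine hb ?_
  have h2 := hboth (a * b) ⟨x, hx, fun h => ha (by
    rw [map_mul, hbP x hx] at h; exact mul_right_cancel h)⟩ y hy
  rw [map_mul, hboth a ⟨x, hx, ha⟩ y hy] at h2
  exact mul_left_cancel h2

/-- A normal Sylow subgroup in `H` is impossible. -/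
theorem RData.normal_false [Group.IsSolvable G] {p q : ℕ} [Fact p.Prime] [Fact q.Prime]
    (hpr : p ≠ r) (hqr : q ≠ r) (hnp : NoEdge G r p) (hnq : NoEdge G r q) (hpq : NoEdge G p q)
    (hdp : ∃ d ∈ Cfsg.charDegrees G, p ∣ d) (hdq : ∃ d ∈ Cfsg.charDegrees G, q ∣ d)
    (P : Sylow p H) [(P : Subgroup H).Normal] : False := by
  classical
  by_cases hQn : ∃ Q : Sylow q H, (Q : Subgroup H).Normal
  · obtain ⟨Q, hQ⟩ := hQn
    haveI := hQ
    exact D.not_both_normal hpr hqr hnp hnq hpq hdp hdq P Q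
  push Not at hQn
  haveI := finite_dual R
  haveI := finite_dual V
  haveI : IsMulCommutative V :=
    ⟨⟨fun a b => Subtype.ext (D.hcen b b.2 a (D.hVR a.2))⟩⟩
  haveI := D.nontrivialX
  haveI := Fintype.ofFinite R
  haveI := Fintype.ofFinite (R →* ℂˣ)
  haveI := Fintype.ofFinite (P : Subgroup H)
  have hA : IsPGroup r (R →* ℂˣ) := isPGroup_dual D.hR
  have hcopP : Nat.Coprime (Nat.card (R →* ℂˣ)) (Nat.card (P : Subgroup H)) := by
    obtain ⟨k, hk⟩ := hA.exists_card_eq
    rw [hk]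
    exact Nat.Coprime.pow_left k ((Fact.out : r.Prime).coprime_iff_not_dvd.2
      fun h => D.hH (h.trans (Subgroup.card_subgroup_dvd_card _)))
  let φA : H →* MulAut (R →* ℂˣ) := (dualAct R).comp H.subtype
  set Y := (normHom (A := R →* ℂˣ) φA (P : Subgroup H)).ker with hY
  -- elements of `Y` fix every non-linear character
  have hYfix : ∀ a ∈ Y, ∀ (l : V →* ℂˣ) (θ : R → ℂ), l ≠ 1 → Cfsg.IsIrrCharacter R θ →
      Over D.hVR l θ → mulLin a θ = θ := by
    intro a ha l θ hl hθ hov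
    refine mem_of_ker hcopP (fixLin θ) ha fun h hh => mem_fixLin_div ?_
    have h2 := D.fix_over hnp P hl (isIrrCharacter_mul_linear hθ a) (hov.mulLin D.hder a) hh
    change hact ((h : H) : G) (mulLin a θ) = mulLin a θ at h2
    rwa [hact_mulLin, D.fix_over hnp P hl hθ hov hh] at h2
  have hcY : Cover q (kerAct (A := R →* ℂˣ) φA (P : Subgroup H)) := cover_of_stab fun a ha => by
    rw [stabSub_kerAct]
    obtain ⟨h, hh, hmv⟩ : ∃ h ∈ (P : Subgroup H), φA h a.1 ≠ a.1 := by
      by_contra hcon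
      push Not at hcon
      exact ha (Subtype.ext (fixed_eq_one hcopP a.2 hcon))
    have hp := D.moved_dvd P hh hmv
    exact ⟨fun hd => hpq _ (D.lin_degree a.1 ⟨⟨_, isIrrCharacter_linear 1⟩, rfl⟩)
        (dvd_mul_of_dvd_left hp _) (dvd_mul_of_dvd_left hd _),
      fun χ hd => hpq _ (D.lin_degree a.1 ⟨χ, rfl⟩)
        (dvd_mul_of_dvd_left hp _) (dvd_mul_of_dvd_right hd _)⟩
  obtain ⟨h0, hh0, a0, ha0⟩ := D.exists_moved hpr hnp hdp P
  obtain ⟨γ, hγY, hγ1⟩ :=
    exists_ker_ne_one (A := R →* ℂˣ) (φ := φA) (P := (P : Subgroup H)) hh0 ha0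
  obtain ⟨h, hh, hmv⟩ := exists_moved_of_ker (A := R →* ℂˣ) hcopP hγY hγ1
  have hmv' : ¬ dualAct R ((h : H) : G) γ = γ := hmv
  rw [dualAct_eq_iff, not_forall] at hmv'
  obtain ⟨z, hz⟩ := hmv'
  set x : R := z⁻¹ * MulAut.conjNormal ((h : H) : G) z with hx
  have hγx : γ x ≠ 1 := by
    rw [hx, map_mul, map_inv]
    exact fun e => hz (inv_mul_eq_one.1 e).symm
  have hsurj : Function.Surjective (commHom D.hder D.hcen x) :=
    commHom_surjective D.hVR D.hder D.hcen fun θ hθ hne1 => by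
      obtain ⟨l, hl⟩ := exists_over_self (hVR := D.hVR) D.hcen hθ
      have hl1 : l ≠ 1 := fun e => hne1 (over_one_linear D.hder hθ (e ▸ hl))
      have h4 := congrFun (hYfix γ hγY l θ hl1 hθ hl) x
      by_contra hne0
      exact hγx (Units.ext (mul_eq_right₀ hne0 |>.1 h4))
  have hmem : ∀ l : V →* ℂˣ, l.comp (commHom D.hder D.hcen x) ∈ Y := fun l => by
    have he : l.comp (commHom D.hder D.hcen x) =
        φA h (l.comp (commHom D.hder D.hcen z)) / l.comp (commHom D.hder D.hcen z) := by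
      refine MonoidHom.ext fun y => ?_
      rw [MonoidHom.div_apply, MonoidHom.comp_apply, MonoidHom.comp_apply, hx,
        commHom_mul D.hVR, map_mul, commHom_inv D.hVR, map_inv, mul_comm, ← div_eq_mul_inv]
      refine congrArg (fun w => w / _) (congrArg l (Subtype.ext ?_))
      simp only [commHom_coe, MulAut.conjNormal_apply]
      refine Eq.trans ?_ (D.centralizes hnp P hh (v := ⁅(z : G), ((MulAut.conjNormal ((h : G))⁻¹ y : R) : G)⁆)
        (commHom D.hder D.hcen z (MulAut.conjNormal ((h : G))⁻¹ y)).2)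
      simp only [MulAut.conjNormal_apply, commutatorElement_def]
      group
    rw [he]
    exact div_mem_ker (A := R →* ℂˣ) φA (P : Subgroup H) hh _
  let f : (V →* ℂˣ) → Y := fun l => ⟨l.comp (commHom D.hder D.hcen x), hmem l⟩
  have hinj : Function.Injective f := fun l l' e => MonoidHom.ext fun v => by
    obtain ⟨y, rfl⟩ := hsurj v
    exact DFunLike.congr_fun (congrArg Subtype.val e) y
  have hlt : Nat.card (V →* ℂˣ) < Nat.card Y := by
    refine lt_of_le_of_ne (Nat.card_le_card_of_injective f hinj) fun e => ?_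
    obtain ⟨l, hl⟩ := ((Nat.bijective_iff_injective_and_card f).2 ⟨hinj, e⟩).2 ⟨γ, hγY⟩
    apply hγx
    rw [← congrArg (fun w : Y => w.1 x) hl]
    show l (commHom D.hder D.hcen x x) = 1
    rw [show commHom D.hder D.hcen x x = 1 from Subtype.ext (by simp [commHom_coe]), map_one]
  obtain ⟨S, S', hS⟩ := exists_two_sylow hQn
  exact partition_false (X := V →* ℂˣ) (α := (dualAct V).comp H.subtype) (D.cover hnq) hcY
    D.isPGroupX (hA.to_subgroup Y) hS hlt

/-- The case is impossible. -/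
theorem r_case [Group.IsSolvable G] {p q : ℕ} [Fact p.Prime] [Fact q.Prime]
    (hne' : p ≠ q) (hpr : p ≠ r) (hqr : q ≠ r) (hnp : NoEdge G r p) (hnq : NoEdge G r q)
    (hpq : NoEdge G p q) (hdp : ∃ d ∈ Cfsg.charDegrees G, p ∣ d)
    (hdq : ∃ d ∈ Cfsg.charDegrees G, q ∣ d)
    (hmin : ∀ K : Subgroup G, K.Normal → K ≤ V → K = ⊥ ∨ K = V) : False := by
  by_cases hPn : ∃ P : Sylow p H, (P : Subgroup H).Normal
  · obtain ⟨P, hP⟩ := hPn
    haveI := hP
    exact D.normal_false hpr hqr hnp hnq hpq hdp hdq P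
  by_cases hQn : ∃ Q : Sylow q H, (Q : Subgroup H).Normal
  · obtain ⟨Q, hQ⟩ := hQn
    haveI := hQ
    exact D.normal_false hqr hpr hnq hnp hpq.symm hdq hdp Q
  push Not at hPn hQn
  haveI : IsMulCommutative V :=
    ⟨⟨fun a b => Subtype.ext (D.hcen b b.2 a (D.hVR a.2))⟩⟩
  haveI := finite_dual V
  haveI := D.nontrivialX
  set φ : H →* MulAut (V →* ℂˣ) := (dualAct V).comp H.subtype with hφ
  have hcp : Cover (X := V →* ℂˣ) p φ := D.cover hnp
  have hcq : Cover (X := V →* ℂˣ) q φ := D.cover hnq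
  haveI : Finite φ.range := Finite.of_surjective _ φ.rangeRestrict_surjective
  haveI : Group.IsSolvable φ.range := Group.isSolvable_of_surjective φ.rangeRestrict_surjective
  refine module_false (X := V →* ℂˣ) (ℓ := r) (fun l => dual_pow D.hexp l) φ.range.subtype
    Subtype.val_injective (fun U hU => ?_) hne' (cover_range hcp) (cover_range hcq)
    (fun Q => not_normal_range hcp (hPn (Classical.arbitrary _)) Q)
    (fun Q => not_normal_range hcq (hQn (Classical.arbitrary _)) Q) fun d hd h => ?_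
  · refine dual_irreducible V hmin H (fun g => ?_) U fun h l hl => hU ⟨φ h, h, rfl⟩ l hl
    obtain ⟨⟨⟨x, hx⟩, ⟨k, hk⟩⟩, rfl⟩ := D.compl.surjective g
    refine ⟨k, hk, fun v hv => ?_⟩
    have h5 := D.hcen _ ((inferInstance : V.Normal).conj_mem v hv k) x hx
    show x * k * v * (x * k)⁻¹ = k * v * k⁻¹
    rw [mul_inv_rev, show x * k * v * (k⁻¹ * x⁻¹) = x * (k * v * k⁻¹) * x⁻¹ by group, h5,
      mul_inv_cancel_right]
  · exact hpq d (charDegrees_complement_subset D.compl
      (SL2Degrees.charDegrees_subset_of_surjective φ.rangeRestrict φ.rangeRestrict_surjective hd))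
      (dvd_of_mul_right_dvd h) (dvd_of_mul_left_dvd h)

end Cfsg.Agent.BlocksChars.Palfy
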